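import Groth.Prelude.Def_LocCohZ
import Groth.Agent.H30.DerivedSES
import Groth.Agent.H30.DerivedNat
import Groth.Agent.Lib.CohDelta.Flasque
import Groth.Agent.Lib.DerivedOX.RestrictKInj
import Groth.Agent.Lib.Modules.Local
import Groth.Agent.Lib.BigEt.Derived
import Groth.Agent.Lib.QCoh.Closure

/-!
# Sections with support of `O_Y`-modules along an open immersion
-/

set_option autoImplicit false
set_option linter.style.haveILetI false

universe u

open CategoryTheory Limits AlgebraicGeometry Opposite

namespace Groth.Agent.Lib.SiteCmp29.GammaZ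

variable {U Y : Scheme.{u}} (j : U ⟶ Y) [IsOpenImmersion j]

/-- `M ↦ j_* j^* M`. -/
noncomputable abbrev tFun : Y.Modules ⥤ Y.Modules :=
  Scheme.Modules.restrictFunctor j ⋙ Scheme.Modules.pushforward j

/-- The inclusion `Γ_Z M → M`. -/
noncomputable def ι : DCoh.gammaZ j ⟶ 𝟭 Y.Modules where
  app _ := kernel.ι _
  naturality _ _ _ := kernel.lift_ι _ _ _

/-- The unit. -/
noncomputable abbrev η : 𝟭 Y.Modules ⟶ tFun j := (Scheme.Modules.restrictAdjunction j).unit

lemma ι_η (M : Y.Modules) : (ι j).app M ≫ (η j).app M = 0 := kernel.condition _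

theorem seq_shortExact (I : Y.Modules) (hI : Injective I) :
    (ShortComplex.mk ((ι j).app I) ((η j).app I) (ι_η j I)).ShortExact :=
  { exact := ShortComplex.exact_of_f_is_kernel _ (kernelIsKernel _)
    mono_f := equalizer.ι_mono
    epi_g := by
      haveI : ∀ V, Epi (((Scheme.Modules.toPresheaf Y).map ((η j).app I)).app V) := fun V => by
        rw [AddCommGrpCat.epi_iff_surjective]
        exact CohDelta.Flasque.surjective_res I (j.image_preimage_le V.unop)
      haveI : Epi ((Scheme.Modules.toPresheaf Y).map ((η j).app I)) := NatTrans.epi_of_epi_app _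
      exact (Scheme.Modules.toPresheaf Y).epi_of_epi_map this }

/-- Restriction along an isomorphism is an equivalence. -/
theorem isEquivalence_restrict {X₁ X₂ : Scheme.{u}} (e : X₁ ≅ X₂) :
    (Scheme.Modules.restrictFunctor e.hom).IsEquivalence :=
  (CategoryTheory.Equivalence.mk (Scheme.Modules.restrictFunctor e.hom)
    (Scheme.Modules.restrictFunctor e.inv)
    (Scheme.Modules.restrictFunctorId.symm ≪≫
      Scheme.Modules.restrictFunctorCongr e.inv_hom_id.symm ≪≫
      Scheme.Modules.restrictFunctorComp e.inv e.hom)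
    ((Scheme.Modules.restrictFunctorComp e.hom e.inv).symm ≪≫
      Scheme.Modules.restrictFunctorCongr e.hom_inv_id ≪≫
      Scheme.Modules.restrictFunctorId)).isEquivalence_functor

instance restrict_preservesInjectiveObjects :
    (Scheme.Modules.restrictFunctor j).PreservesInjectiveObjects where
  injective_obj {I} hI := by
    have e := (Scheme.Modules.restrictFunctorCongr (j.isoOpensRange_hom_ι).symm ≪≫
      Scheme.Modules.restrictFunctorComp j.isoOpensRange.hom j.opensRange.ι).app I
    haveI := isEquivalence_restrict j.isoOpensRange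
    haveI : (DerivedOX.RestrictKInj.extZero j.opensRange).PreservesMonomorphisms :=
      preservesMonomorphisms_of_preservesLimitsOfShape _
    haveI : Injective ((Scheme.Modules.restrictFunctor j.opensRange.ι).obj I) :=
      (DerivedOX.RestrictKInj.extZeroAdj j.opensRange).map_injective I hI
    exact Injective.of_iso e.symm
      ((Scheme.Modules.restrictFunctor j.isoOpensRange.hom).asEquivalence.symm.toAdjunction.map_injective _ this)

instance : PreservesFiniteLimits (Scheme.Modules.pushforward j) :=
  haveI : PreservesLimitsOfSize.{0, 0} (Scheme.Modules.pushforward j) :=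
    (Scheme.Modules.pullbackPushforwardAdjunction j).rightAdjoint_preservesLimits
  PreservesLimitsOfSize.preservesFiniteLimits _

instance : (Scheme.Modules.pushforward j).Additive :=
  Functor.additive_of_preserves_binary_products _

instance : (tFun j).Additive := inferInstance

instance : PreservesFiniteLimits (tFun j) := comp_preservesFiniteLimits _ _

lemma isZero_id [HasInjectiveResolutions Y.Modules] (n : ℕ) (M : Y.Modules) :
    IsZero (((𝟭 Y.Modules).rightDerived (n + 1)).obj M) :=
  Groth.Agent.Lib.BigEt.Derived.isZero_of_exact _ (n + 1) n.succ_pos M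

variable [HasInjectiveResolutions Y.Modules]

/-- `ℋ^1_Z ≅ coker (𝟭 → j_* j^*)`. -/
noncomputable def oneIso : LocCohZ.HZshM j 1 ≅ cokernel (η j) :=
  (H30.DerivedSES.cokernelIso (ι j) (η j) (ι_η j) (seq_shortExact j) (isZero_id 0)).symm

/-- `ℋ^{q+2}_Z ≅ R^{q+1} j_* ∘ j^*`. -/
noncomputable def succIso [HasInjectiveResolutions U.Modules] (q : ℕ) :
    LocCohZ.HZshM j (q + 2) ≅
      Scheme.Modules.restrictFunctor j ⋙ (Scheme.Modules.pushforward j).rightDerived (q + 1) :=
  (H30.DerivedSES.δIso (ι j) (η j) (ι_η j) (seq_shortExact j) (q + 1) (isZero_id q)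
    (isZero_id (q + 1))).symm ≪≫
      H30.DerivedNat.precompNatIso (Scheme.Modules.restrictFunctor j) (Scheme.Modules.pushforward j) (q + 1)

/-- `ℋ^0_Z` of a quasi-coherent module is quasi-coherent. -/
theorem isQCoh_zero (M : Y.Modules) [M.IsQuasicoherent]
    (hP : ((tFun j).obj M).IsQuasicoherent) : ((LocCohZ.HZshM j 0).obj M).IsQuasicoherent := by
  haveI : (𝟭 Y.Modules).Additive := inferInstance
  let P := injectiveResolution M
  have hS := H30.DerivedSES.cx_shortExact (ι j) (η j) (ι_η j) (seq_shortExact j) P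
  let S := H30.DerivedSES.cx (ι j) (η j) (ι_η j) P.cocomplex
  haveI := hS.mono_f
  haveI : Mono (HomologicalComplex.homologyMap S.f 0) := by
    haveI : Mono (HomologicalComplex.cyclesMap S.f 0) := inferInstance
    have h := HomologicalComplex.homologyπ_naturality S.f 0
    haveI : IsIso (S.X₁.homologyπ 0) := (CochainComplex.isoHomologyπ₀ S.X₁).isIso_hom
    haveI : IsIso (S.X₂.homologyπ 0) := (CochainComplex.isoHomologyπ₀ S.X₂).isIso_hom
    have e : HomologicalComplex.homologyMap S.f 0 =
        inv (S.X₁.homologyπ 0) ≫ HomologicalComplex.cyclesMap S.f 0 ≫ S.X₂.homologyπ 0 := by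
      rw [← h, IsIso.inv_hom_id_assoc]
    rw [e]; infer_instance
  let p := SheafOfModules.isQuasicoherent (R := Y.ringCatSheaf)
  haveI : (S.X₂.homology 0).IsQuasicoherent :=
    p.prop_of_iso (((𝟭 Y.Modules).rightDerivedZeroIsoSelf.app M).symm ≪≫
      P.isoRightDerivedObj (𝟭 Y.Modules) 0)
      (show p ((𝟭 Y.Modules).obj M) from ‹M.IsQuasicoherent›)
  haveI : (S.X₃.homology 0).IsQuasicoherent :=
    p.prop_of_iso (((tFun j).rightDerivedZeroIsoSelf.app M).symm ≪≫
      P.isoRightDerivedObj (tFun j) 0) hP
  haveI : Mono (ShortComplex.mk _ _ (by rw [← HomologicalComplex.homologyMap_comp, S.zero,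
      HomologicalComplex.homologyMap_zero] : HomologicalComplex.homologyMap S.f 0 ≫
        HomologicalComplex.homologyMap S.g 0 = 0)).f := ‹_›
  haveI := QCoh.Closure.isQCoh_of_exact_mono (hS.homology_exact₂ 0)
  exact p.prop_of_iso (P.isoRightDerivedObj (DCoh.gammaZ j) 0).symm ‹(S.X₁.homology 0).IsQuasicoherent›

end Groth.Agent.Lib.SiteCmp29.GammaZ
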