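import Groth.Agent.Lib.SiteCmp29.Vanishing
import Groth.Agent.Lib.SiteCoh.CohPresheaf

/-!
# Consequences of the vanishing: weak Serre, direct images, cohomology
-/

set_option autoImplicit false
set_option linter.style.haveILetI false
set_option linter.unusedSectionVars false
set_option backward.isDefEq.respectTransparency false

universe u

open CategoryTheory Limits Opposite
open scoped ZeroObject

namespace Groth.Agent.Lib.SiteCmp29.Consequences

open Sites CycleAcyc Vanishing

variable {C : Type u} [SmallCategory C] {J J' : GrothendieckTopology C} {h : J' ≤ J}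
  {A' : ∀ X : C, ObjectProperty (Sheaf (J'.over X) AddCommGrpCat.{u})} [∀ X : C, WSerre.IsWeakSerre (A' X)]
  {P : MorphismProperty C}

/-- `ε` of a resolution is a resolution. -/
noncomputable def epsResolution {X : C} {F : Sheaf (J.over X) AddCommGrpCat.{u}} (R : InjectiveResolution F)
    (hR : ∀ k : ℕ, IsZero (((εX h X).rightDerived (k + 1)).obj F)) :
    InjectiveResolution ((εX h X).obj F) where
  cocomplex := TJ (εX h X) R.cocomplex
  injective n := (εX h X).injective_obj_of_injective (R.injective n)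
  ι := (CochainComplex.fromSingle₀Equiv _ _).symm ⟨(εX h X).map (R.ι.f 0), by
    have h' := congrArg (εX h X).map R.ι_f_zero_comp_complex_d
    rw [Functor.map_comp, Functor.map_zero] at h'
    exact h'⟩
  quasiIso := ⟨fun n => by
    cases n with
    | succ n =>
      rw [quasiIsoAt_iff_exactAt _ _ (CochainComplex.exactAt_succ_single_obj _ _),
        HomologicalComplex.exactAt_iff_isZero_homology]
      exact (hR n).of_iso (R.isoRightDerivedObj (εX h X) (n + 1)).symm
    | zero =>
      rw [CochainComplex.quasiIsoAt₀_iff, ShortComplex.quasiIso_iff_of_zeros]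
      · have w : (εX h X).map (R.ι.f 0) ≫ (TJ (εX h X) R.cocomplex).d 0 1 = 0 := by
          have h' := congrArg (εX h X).map R.ι_f_zero_comp_complex_d
          rw [Functor.map_comp, Functor.map_zero] at h'
          exact h'
        have hl : IsLimit (KernelFork.ofι ((εX h X).map (R.ι.f 0)) w :
            KernelFork ((TJ (εX h X) R.cocomplex).d 0 1)) :=
          IsLimit.ofIsoLimit (KernelFork.mapIsLimit R.kernelFork R.isLimitKernelFork (εX h X))
            (Fork.ext (Iso.refl _) (Category.id_comp _))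
        let S := ShortComplex.mk ((εX h X).map (R.ι.f 0)) ((TJ (εX h X) R.cocomplex).d 0 1) w
        refine (ShortComplex.exact_and_mono_f_iff_of_iso ?_).1
          ⟨ShortComplex.exact_of_f_is_kernel S hl, Fork.IsLimit.mono hl⟩
        exact ShortComplex.isoMk (Iso.refl _) (Iso.refl _) (Iso.refl _)
          ((Category.id_comp _).trans (Category.comp_id _).symm)
          ((Category.id_comp _).trans (Category.comp_id _).symm)
      all_goals first | rfl | exact (TJ (εX h X) R.cocomplex).shape _ _ (by simp)⟩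

/-- Cohomology does not change. -/
theorem nonempty_hu_equiv (H : Hyp (J := J) A' P) (X : C) (F' : Sheaf (J'.over X) AddCommGrpCat.{u})
    (hF' : A' X F') (n : ℕ) :
    Nonempty (CohSite.HU F' n (Over.mk (𝟙 X)) ≃+
      CohSite.HU ((SiteCmp.epsShInv (SiteCmp.over_le h X) AddCommGrpCat.{u}).obj F') n (Over.mk (𝟙 X))) := by
  let hX := SiteCmp.over_le h X
  haveI := isIso_unit_of_isSheaf hX F' (H.sheaf X F' hF')
  let F := (L (J.over X) (J'.over X)).obj F'
  let e : F' ≅ (εX h X).obj F := asIso ((Sites.adj hX).unit.app F')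
  let e₂ : F ≅ (SiteCmp.epsShInv hX AddCommGrpCat.{u}).obj F' :=
    ((Sites.adj hX).leftAdjointUniq (SiteCmp.epsShAdj hX AddCommGrpCat.{u})).app F'
  let R := injectiveResolution F
  have hF : A' X ((εX h X).obj F) := (A' X).prop_of_iso e hF'
  let R' := epsResolution (h := h) R fun k => V_all h H (k + 1) X F hF k le_rfl
  let ec : SiteCoh.CohPresheaf.presheafCx R' ≅ SiteCoh.CohPresheaf.presheafCx R :=
    HomologicalComplex.Hom.isoOfComponents (fun _ => Iso.refl _)
      (fun i j _ => (Category.id_comp _).trans (Category.comp_id _).symm)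
  exact ⟨((((Sheaf.cohomologyPresheafFunctor.{u} (J'.over X) n).mapIso e ≪≫
      (SiteCoh.CohPresheaf.homologyIso R' n).symm ≪≫
      (HomologicalComplex.homologyFunctor _ _ n).mapIso ec ≪≫
      SiteCoh.CohPresheaf.homologyIso R n ≪≫
      (Sheaf.cohomologyPresheafFunctor.{u} (J.over X) n).mapIso e₂).app
        (op (Over.mk (𝟙 X))))).addCommGroupIsoToAddEquiv⟩

/-- The two direct images agree after `ε`. -/
noncomputable def pushEpsIso {W V : C} (f : W ⟶ V) :
    εX h W ⋙ f' J' f ≅ f' J f ⋙ εX h V :=
  NatIso.ofComponents (fun M => (sheafToPresheaf _ _).preimageIso (Iso.refl _))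
    (fun {M N} a => (sheafToPresheaf _ _).map_injective (by
      rw [Functor.map_comp, Functor.map_comp]
      simp only [Functor.preimageIso_hom, Functor.map_preimage, Iso.refl_hom]
      exact (Category.comp_id _).trans (Category.id_comp _).symm))

/-- The higher direct images agree after `ε`, in the range where `R ε` vanishes. -/
theorem nonempty_rightDerived_push (H : Hyp (J := J) A' P) {n : ℕ} (hn : Vanishing.V h A' n) {X Y : C}
    (f : X ⟶ Y) (hf : P f) (F : Sheaf (J.over X) AddCommGrpCat.{u}) (hF : A' X ((εX h X).obj F))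
    (i : ℕ) (hi : i ≤ n) :
    Nonempty (((f' J' f).rightDerived i).obj ((εX h X).obj F) ≅
      (εX h Y).obj (((f' J f).rightDerived i).obj F)) := by
  haveI := preservesFiniteColimits_L' (SiteCmp.over_le h Y)
  haveI : (r J' f).PreservesMonomorphisms := inferInstance
  let R := injectiveResolution F
  let T₀ := TJ (εX h X) R.cocomplex
  let R₁ := TJ (f' J f) R.cocomplex
  let eC : TJ (f' J' f) T₀ ≅ TJ (εX h Y) R₁ :=
    HomologicalComplex.Hom.isoOfComponents (fun j => (pushEpsIso (h := h) f).app (R.cocomplex.X j))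
      (fun a b _ => ((pushEpsIso (h := h) f).hom.naturality (R.cocomplex.d a b)).symm)
  have hacyc : ∀ j k : ℕ, IsZero (((f' J' f).rightDerived (k + 1)).obj (T₀.X j)) := fun j k =>
    haveI : Injective (T₀.X j) := (εX h X).injective_obj_of_injective (R.injective j)
    Functor.isZero_rightDerived_obj_injective_succ _ _ _
  have hz : ∀ k, 1 ≤ k → k ≤ n → IsZero (T₀.homology k) := fun k h₁ h₂ => by
    obtain ⟨m, rfl⟩ : ∃ m, k = m + 1 := ⟨k - 1, by omega⟩
    exact (hn X F hF m h₂).of_iso (R.isoRightDerivedObj (εX h X) (m + 1)).symm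
  let e0 : T₀.homology 0 ≅ (εX h X).obj F :=
    (R.isoRightDerivedObj (εX h X) 0).symm ≪≫ (εX h X).rightDerivedZeroIsoSelf.app F
  obtain ⟨e1⟩ : Nonempty ((TJ (f' J' f) T₀).homology i ≅
      ((f' J' f).rightDerived i).obj ((εX h X).obj F)) := by
    cases i with
    | zero => exact ⟨homologyZeroIso (f' J' f) T₀ ≪≫ (f' J' f).mapIso e0 ≪≫
        ((f' J' f).rightDerivedZeroIsoSelf.app _).symm⟩
    | succ m =>
      obtain ⟨e⟩ := nonempty_homology_iso (f' J' f) T₀ hacyc m fun k h₁ h₂ => hz k h₁ (by omega)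
      exact ⟨e ≪≫ ((f' J' f).rightDerived (m + 1)).mapIso e0⟩
  let e2 : (TJ (f' J' f) T₀).homology i ≅ (TJ (εX h Y) R₁).homology i :=
    (HomologicalComplex.homologyFunctor _ _ i).mapIso eC
  have hloc := isIso_unit_of_isSheaf (SiteCmp.over_le h Y) ((TJ (εX h Y) R₁).homology i)
    (H.sheaf Y _ ((A' Y).prop_of_iso (e1.symm ≪≫ e2) (H.push f hf _ hF i)))
  exact ⟨e1.symm ≪≫ e2 ≪≫ Reflect.homologyIso (Sites.adj (SiteCmp.over_le h Y)) R₁ i ≪≫
    (εX h Y).mapIso (R.isoRightDerivedObj (f' J f) i).symm⟩

/-- `A` is a weak Serre subcategory. -/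
theorem isWeakSerre_inverseImage (H : Hyp (J := J) A' P) (X : C) :
    WSerre.IsWeakSerre ((A' X).inverseImage (εX h X)) := by
  let hX := SiteCmp.over_le h X
  let e := εX h X
  haveI := preservesFiniteColimits_L' hX
  refine { exists_zero := ?_, kernels_le := ?_, cokernels_le := ?_, prop_X₂_of_shortExact := ?_ }
  · obtain ⟨Z, hZ, hPZ⟩ := (A' X).exists_prop_of_containsZero
    exact ⟨0, isZero_zero _, (A' X).prop_of_iso (hZ.iso (e.map_isZero (isZero_zero _))) hPZ⟩
  · rintro _ ⟨f, k, hk, hf⟩
    exact (A' X).prop_of_isLimit_kernelFork (KernelFork.mapIsLimit k hk e) hf.1 hf.2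
  · rintro _ ⟨f, k, hk, hf⟩
    have hQ : A' X (cokernel (e.map f)) :=
      (A' X).prop_of_isColimit_cokernelCofork (colimit.isColimit _) hf.1 hf.2
    haveI := isIso_unit_of_isSheaf hX _ (H.sheaf X _ hQ)
    let Lc := L (J.over X) (J'.over X)
    let eQ : Lc.obj (cokernel (e.map f)) ≅ cokernel f :=
      PreservesCokernel.iso Lc (e.map f) ≪≫ cokernel.mapIso _ _ (asIso ((Sites.adj hX).counit.app _))
        (asIso ((Sites.adj hX).counit.app _)) ((Sites.adj hX).counit.naturality f)
    exact (A' X).prop_of_iso (asIso ((Sites.adj hX).unit.app _) ≪≫ e.mapIso eQ ≪≫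
      e.mapIso ((colimit.isColimit _).coconePointUniqueUpToIso hk)) hQ
  · intro S hS h₁ h₃
    haveI := hS.mono_f
    haveI := e.map_mono S.f
    have hz := V_all h H 1 X S.X₁ h₁ 0 le_rfl
    haveI : Epi ((e.rightDerived 0).map S.g) :=
      ((les e).exact₃ S hS 0 1 rfl).epi_f (hz.eq_of_tgt _ _)
    haveI : Epi (e.map S.g) := by
      have : e.map S.g = e.rightDerivedZeroIsoSelf.inv.app _ ≫ (e.rightDerived 0).map S.g ≫
          e.rightDerivedZeroIsoSelf.hom.app _ := by simp
      rw [this]
      infer_instance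
    haveI : Mono (S.map e).f := inferInstanceAs (Mono (e.map S.f))
    haveI : Epi (S.map e).g := inferInstanceAs (Epi (e.map S.g))
    have hS' : (S.map e).ShortExact :=
      { exact := hS.exact.map_of_mono_of_preservesKernel _ hS.mono_f inferInstance }
    exact (A' X).prop_X₂_of_shortExact hS' h₁ h₃

end Groth.Agent.Lib.SiteCmp29.Consequences
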