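import Groth.Agent.Lib.RDer.Connecting
import Groth.Prelude.Def_RDerDelta
import Mathlib.CategoryTheory.Abelian.RightDerived
import Mathlib.CategoryTheory.Abelian.Exact
import Mathlib.Algebra.Homology.SingleHomology

/-!
# A left exact functor on a complex of acyclic objects: the comparison `H^i(T J) ⟶ T(H^i J)`

If the low cohomology of `J` is acyclic enough, the comparison is mono; if the middle cohomology vanishes, its
kernel is `R^iT(H^0 J)`.
-/

set_option autoImplicit false
set_option linter.style.haveILetI false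
set_option backward.isDefEq.respectTransparency false
set_option linter.unusedSectionVars false

universe v v' u u'

open CategoryTheory Limits

namespace Groth.Agent.Lib.SiteCmp29.CycleAcyc

variable {A : Type u} [Category.{v} A] [Abelian A] {B : Type u'} [Category.{v'} B] [Abelian B]
  (T : A ⥤ B) [T.Additive] [PreservesFiniteLimits T] (J : CochainComplex A ℕ)

/-- The image of `J` under `T`. -/
noncomputable abbrev TJ : CochainComplex B ℕ := (T.mapHomologicalComplex _).obj J

/-- The cycles of `T J` are `T` of the cycles. -/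
noncomputable def cyclesIso (i : ℕ) : (TJ T J).cycles i ≅ T.obj (J.cycles i) :=
  ((TJ T J).cyclesIsKernel i (i + 1) (by simp)).conePointUniqueUpToIso
    (KernelFork.mapIsLimit _ (J.cyclesIsKernel i (i + 1) (by simp)) T)

@[reassoc (attr := simp)]
lemma cyclesIso_hom_i (i : ℕ) :
    (cyclesIso T J i).hom ≫ T.map (J.iCycles i) = (TJ T J).iCycles i :=
  ((TJ T J).cyclesIsKernel i (i + 1) (by simp)).conePointUniqueUpToIso_hom_comp
    (KernelFork.mapIsLimit _ (J.cyclesIsKernel i (i + 1) (by simp)) T) WalkingParallelPair.zero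

@[reassoc]
lemma toCycles_cyclesIso (i j : ℕ) :
    (TJ T J).toCycles i j ≫ (cyclesIso T J j).hom = T.map (J.toCycles i j) := by
  haveI : Mono (T.map (J.iCycles j)) := T.map_mono _
  rw [← cancel_mono (T.map (J.iCycles j)), Category.assoc, cyclesIso_hom_i, HomologicalComplex.toCycles_i,
    ← T.map_comp, HomologicalComplex.toCycles_i]
  rfl

/-- The comparison `H^j(T J) ⟶ T(H^j J)`. -/
noncomputable def cmp (j : ℕ) : (TJ T J).homology j ⟶ T.obj (J.homology j) :=
  ((TJ T J).homologyIsCokernel ((ComplexShape.up ℕ).prev j) j rfl).desc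
    (CokernelCofork.ofπ ((cyclesIso T J j).hom ≫ T.map (J.homologyπ j)) (by
      rw [toCycles_cyclesIso_assoc, ← T.map_comp, HomologicalComplex.toCycles_comp_homologyπ,
        T.map_zero]))

@[reassoc (attr := simp)]
lemma π_cmp (j : ℕ) :
    (TJ T J).homologyπ j ≫ cmp T J j = (cyclesIso T J j).hom ≫ T.map (J.homologyπ j) :=
  ((TJ T J).homologyIsCokernel ((ComplexShape.up ℕ).prev j) j rfl).fac _ WalkingParallelPair.one

/-- The boundaries inside the cycles. -/
noncomputable abbrev bd (j : ℕ) : A := kernel (J.homologyπ j)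

/-- `J^j ⟶ B^{j+1}`. -/
noncomputable abbrev σ (j : ℕ) : J.X j ⟶ bd J (j + 1) :=
  kernel.lift (J.homologyπ (j + 1)) (J.toCycles j (j + 1))
    (J.toCycles_comp_homologyπ j (j + 1))

instance epi_σ (j : ℕ) : Epi (σ J j) := by
  have h : (ShortComplex.mk _ _ (J.toCycles_comp_homologyπ j (j + 1))).Exact :=
    ShortComplex.exact_of_g_is_cokernel _ (J.homologyIsCokernel j (j + 1) (by simp))
  exact h.epi_kernelLift

lemma iCycles_σ (j : ℕ) : J.iCycles j ≫ σ J j = 0 := by
  rw [← cancel_mono (kernel.ι (J.homologyπ (j + 1))), Category.assoc, kernel.lift_ι, zero_comp,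
    ← cancel_mono (J.iCycles (j + 1)), Category.assoc, HomologicalComplex.toCycles_i, zero_comp,
    HomologicalComplex.iCycles_d]

/-- `Z^j ⟶ J^j ⟶ B^{j+1}`. -/
noncomputable abbrev sesA (j : ℕ) : ShortComplex A := ShortComplex.mk _ _ (iCycles_σ J j)

lemma sesA_shortExact (j : ℕ) : (sesA J j).ShortExact where
  exact := by
    refine ShortComplex.exact_of_f_is_kernel _ (KernelFork.IsLimit.ofι' _ _ fun k hk =>
      ⟨J.liftCycles k (j + 1) (by simp) ?_, J.liftCycles_i _ _ _ _⟩)
    have h : k ≫ σ J j = 0 := hk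
    have h' := congrArg (fun t => t ≫ kernel.ι (J.homologyπ (j + 1)) ≫ J.iCycles (j + 1)) h
    simpa using h'
  mono_f := inferInstanceAs (Mono (J.iCycles j))
  epi_g := inferInstanceAs (Epi (σ J j))

/-- `B^j ⟶ Z^j ⟶ H^j`. -/
noncomputable abbrev sesB (j : ℕ) : ShortComplex A :=
  ShortComplex.mk (kernel.ι (J.homologyπ j)) (J.homologyπ j) (kernel.condition _)

lemma sesB_shortExact (j : ℕ) : (sesB J j).ShortExact where
  exact := ShortComplex.exact_of_f_is_kernel _ (kernelIsKernel _)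
  mono_f := inferInstanceAs (Mono (kernel.ι _))
  epi_g := inferInstanceAs (Epi (J.homologyπ j))

variable [EnoughInjectives A] (hJ : ∀ j k : ℕ, IsZero ((T.rightDerived (k + 1)).obj (J.X j)))

section
variable {T}

/-- A long exact sequence. -/
noncomputable def les (T : A ⥤ B) [T.Additive] : _root_.RDer.DerivedLES T :=
  (RDer.Connecting.nonempty_derivedLES T).some

end

include hJ in
lemma isIso_δ (k j : ℕ) :
    IsIso ((les T).δ (sesA J j) (sesA_shortExact J j) (k + 1) (k + 2) rfl) := by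
  have h₁ := (les T).exact₃ (sesA J j) (sesA_shortExact J j) (k + 1) (k + 2) rfl
  have h₂ := (les T).exact₁ (sesA J j) (sesA_shortExact J j) (k + 1) (k + 2) rfl
  haveI : Mono ((les T).δ (sesA J j) (sesA_shortExact J j) (k + 1) (k + 2) rfl) :=
    h₁.mono_g ((hJ j k).eq_of_src _ _)
  haveI : Epi ((les T).δ (sesA J j) (sesA_shortExact J j) (k + 1) (k + 2) rfl) :=
    h₂.epi_f ((hJ j (k + 1)).eq_of_tgt _ _)
  exact isIso_of_mono_of_epi _

/-- `R^k T B^{j+1} ≅ R^{k+1} T Z^j` for `k ≥ 1`. -/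
noncomputable def bdIso (k j : ℕ) :
    (T.rightDerived (k + 1)).obj (bd J (j + 1)) ≅ (T.rightDerived (k + 2)).obj (J.cycles j) :=
  @asIso _ _ _ _ _ (isIso_δ T J hJ k j)

include hJ in
/-- Vanishing for the cycles. -/
lemma isZero_cycles (n : ℕ)
    (h : ∀ j k : ℕ, j + k + 1 ≤ n → IsZero ((T.rightDerived (k + 1)).obj (J.homology j))) :
    ∀ j k : ℕ, j + k + 1 ≤ n → IsZero ((T.rightDerived (k + 1)).obj (J.cycles j)) := by
  intro j
  induction j with
  | zero =>
    intro k hk
    exact (h 0 k hk).of_iso ((T.rightDerived (k + 1)).mapIso (CochainComplex.isoHomologyπ₀ J))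
  | succ j ih =>
    intro k hk
    have h₂ := (les T).exact₂ (sesB J (j + 1)) (sesB_shortExact J (j + 1)) (k + 1)
    have hb : IsZero ((T.rightDerived (k + 1)).obj (bd J (j + 1))) :=
      (ih (k + 1) (by omega)).of_iso (bdIso T J hJ k j)
    exact h₂.isZero_X₂ (hb.eq_of_src _ _) ((h (j + 1) k hk).eq_of_tgt _ _)

lemma map_eq (j : ℕ) :
    T.map (σ J j) =
      T.rightDerivedZeroIsoSelf.inv.app _ ≫ (T.rightDerived 0).map (σ J j) ≫
        T.rightDerivedZeroIsoSelf.hom.app _ := by
  simp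

lemma epi_map_σ (j : ℕ) (h : IsZero ((T.rightDerived 1).obj (J.cycles j))) : Epi (T.map (σ J j)) := by
  have h₃ := (les T).exact₃ (sesA J j) (sesA_shortExact J j) 0 1 rfl
  haveI : Epi ((T.rightDerived 0).map (σ J j)) := h₃.epi_f (h.eq_of_tgt _ _)
  rw [map_eq]
  infer_instance

include hJ in
/-- If the cohomology below degree `n` is acyclic enough, the comparison in degree `n` is mono. -/
theorem mono_cmp (n : ℕ)
    (h : ∀ j k : ℕ, j + k + 1 ≤ n → IsZero ((T.rightDerived (k + 1)).obj (J.homology j))) :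
    Mono (cmp T J n) := by
  cases n with
  | zero =>
    have h₀ : (TJ T J).homologyπ 0 ≫ cmp T J 0 = _ := π_cmp T J 0
    haveI : IsIso (J.homologyπ 0) := (CochainComplex.isoHomologyπ₀ J).isIso_hom
    haveI : IsIso ((TJ T J).homologyπ 0) := (CochainComplex.isoHomologyπ₀ (TJ T J)).isIso_hom
    haveI : IsIso ((TJ T J).homologyπ 0 ≫ cmp T J 0) := by rw [h₀]; infer_instance
    haveI := IsIso.of_isIso_comp_left ((TJ T J).homologyπ 0) (cmp T J 0)
    infer_instance
  | succ m =>
    haveI := epi_map_σ T J m (isZero_cycles T J hJ (m + 1) h m 0 (by omega))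
    refine Preadditive.mono_of_cancel_zero _ fun {W} x hx => ?_
    obtain ⟨W₁, p, _, y, hy⟩ := surjective_up_to_refinements_of_epi ((TJ T J).homologyπ (m + 1)) x
    have hy' : (y ≫ (cyclesIso T J (m + 1)).hom) ≫ T.map (J.homologyπ (m + 1)) = 0 := by
      rw [Category.assoc, ← π_cmp, ← reassoc_of% hy, hx, comp_zero]
    obtain ⟨b, hb⟩ : ∃ b : W₁ ⟶ T.obj (bd J (m + 1)),
        b ≫ T.map (kernel.ι (J.homologyπ (m + 1))) = y ≫ (cyclesIso T J (m + 1)).hom :=
      ⟨(KernelFork.mapIsLimit _ (kernelIsKernel (J.homologyπ (m + 1))) T).lift (KernelFork.ofι _ hy'),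
        (KernelFork.mapIsLimit _ (kernelIsKernel (J.homologyπ (m + 1))) T).fac _ WalkingParallelPair.zero⟩
    obtain ⟨W₂, q, _, z, hz⟩ := surjective_up_to_refinements_of_epi (T.map (σ J m)) b
    have e : q ≫ y = z ≫ (TJ T J).toCycles m (m + 1) := by
      rw [← cancel_mono (cyclesIso T J (m + 1)).hom, Category.assoc, Category.assoc,
        toCycles_cyclesIso, ← hb, reassoc_of% hz, ← T.map_comp, kernel.lift_ι]
    rw [← cancel_epi p, comp_zero, hy, ← cancel_epi q, reassoc_of% e, comp_zero,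
      HomologicalComplex.toCycles_comp_homologyπ, comp_zero]

/-- `B^{m+1}` mapped to the kernel of the comparison. -/
noncomputable def toKer (m : ℕ) : T.obj (bd J (m + 1)) ⟶ kernel (cmp T J (m + 1)) :=
  kernel.lift _ (T.map (kernel.ι (J.homologyπ (m + 1))) ≫ (cyclesIso T J (m + 1)).inv ≫
      (TJ T J).homologyπ (m + 1)) (by
    simp only [Category.assoc, π_cmp, Iso.inv_hom_id_assoc, ← T.map_comp, kernel.condition,
      T.map_zero])

lemma toKer_ι (m : ℕ) : toKer T J m ≫ kernel.ι (cmp T J (m + 1)) =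
    T.map (kernel.ι (J.homologyπ (m + 1))) ≫ (cyclesIso T J (m + 1)).inv ≫
      (TJ T J).homologyπ (m + 1) := kernel.lift_ι _ _ _

lemma map_σ_toKer (m : ℕ) : T.map (σ J m) ≫ toKer T J m = 0 := by
  rw [← cancel_mono (kernel.ι _), Category.assoc, toKer_ι, zero_comp, ← T.map_comp_assoc,
    kernel.lift_ι, ← toCycles_cyclesIso, Category.assoc, Iso.hom_inv_id_assoc,
    HomologicalComplex.toCycles_comp_homologyπ]

instance epi_toKer (m : ℕ) : Epi (toKer T J m) := by
  rw [epi_iff_surjective_up_to_refinements]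
  intro W x
  obtain ⟨W₁, p, hp, y, hy⟩ := surjective_up_to_refinements_of_epi ((TJ T J).homologyπ (m + 1))
    (x ≫ kernel.ι _)
  have hy' : (y ≫ (cyclesIso T J (m + 1)).hom) ≫ T.map (J.homologyπ (m + 1)) = 0 := by
    rw [Category.assoc, ← π_cmp, ← reassoc_of% hy, kernel.condition, comp_zero, comp_zero]
  obtain ⟨b, hb⟩ : ∃ b : W₁ ⟶ T.obj (bd J (m + 1)),
      b ≫ T.map (kernel.ι (J.homologyπ (m + 1))) = y ≫ (cyclesIso T J (m + 1)).hom :=
    ⟨(KernelFork.mapIsLimit _ (kernelIsKernel (J.homologyπ (m + 1))) T).lift (KernelFork.ofι _ hy'),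
      (KernelFork.mapIsLimit _ (kernelIsKernel (J.homologyπ (m + 1))) T).fac _ WalkingParallelPair.zero⟩
  refine ⟨W₁, p, hp, b, ?_⟩
  rw [← cancel_mono (kernel.ι _), Category.assoc, Category.assoc, hy, toKer_ι, reassoc_of% hb,
    Iso.hom_inv_id_assoc]

lemma exact_toKer (m : ℕ) : (ShortComplex.mk _ _ (map_σ_toKer T J m)).Exact := by
  rw [ShortComplex.exact_iff_exact_up_to_refinements]
  intro W b hb
  have hb' : (b ≫ T.map (kernel.ι (J.homologyπ (m + 1))) ≫ (cyclesIso T J (m + 1)).inv) ≫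
      (TJ T J).homologyπ (m + 1) = 0 := by
    have h : b ≫ toKer T J m = 0 := hb
    have h' := congrArg (fun t => t ≫ kernel.ι _) h
    simpa [toKer_ι] using h'
  obtain ⟨W₁, p, hp, z, hz⟩ :=
    (ShortComplex.exact_of_g_is_cokernel (ShortComplex.mk _ _
      ((TJ T J).toCycles_comp_homologyπ m (m + 1)))
      ((TJ T J).homologyIsCokernel m (m + 1) (by simp))).exact_up_to_refinements _ hb'
  refine ⟨W₁, p, hp, z, ?_⟩
  haveI : Mono (T.map (kernel.ι (J.homologyπ (m + 1)))) := T.map_mono _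
  have hz' : p ≫ b ≫ T.map (kernel.ι (J.homologyπ (m + 1))) ≫ (cyclesIso T J (m + 1)).inv =
      z ≫ (TJ T J).toCycles m (m + 1) := hz
  change p ≫ b = z ≫ T.map (σ J m)
  rw [← cancel_mono (T.map (kernel.ι (J.homologyπ (m + 1))) ≫ (cyclesIso T J (m + 1)).inv),
    Category.assoc, hz', Category.assoc, ← T.map_comp_assoc, kernel.lift_ι, ← toCycles_cyclesIso,
    Category.assoc, Iso.hom_inv_id, Category.comp_id]

include hJ in
/-- `R^k T Z^{j} ≅ R^{k+j} T Z^0` when the middle cohomology vanishes. -/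
lemma nonempty_cyclesShift : ∀ (j k : ℕ), (∀ i, 1 ≤ i → i ≤ j → IsZero (J.homology i)) →
    Nonempty ((T.rightDerived (k + 1)).obj (J.cycles j) ≅
      (T.rightDerived (k + j + 1)).obj (J.cycles 0)) := by
  intro j
  induction j with
  | zero => exact fun k _ => ⟨Iso.refl _⟩
  | succ j ih =>
    intro k h
    obtain ⟨e⟩ := ih (k + 1) fun i hi hi' => h i hi (by omega)
    haveI : IsIso (kernel.ι (J.homologyπ (j + 1))) := by
      haveI : Epi (kernel.ι (J.homologyπ (j + 1))) :=
        (sesB_shortExact J (j + 1)).exact.epi_f ((h (j + 1) (by omega) le_rfl).eq_of_tgt _ _)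
      exact isIso_of_mono_of_epi _
    exact ⟨((T.rightDerived (k + 1)).mapIso (asIso (kernel.ι (J.homologyπ (j + 1))))).symm ≪≫
      bdIso T J hJ k j ≪≫ e ≪≫ eqToIso (congrArg (fun t => (T.rightDerived t).obj (J.cycles 0))
        (by omega : k + 1 + j + 1 = k + (j + 1) + 1))⟩

include hJ in
/-- If the middle cohomology vanishes, the kernel of the comparison is `R^{m+1}T(H^0)`. -/
theorem nonempty_kernel_cmp (m : ℕ) (h : ∀ i, 1 ≤ i → i ≤ m → IsZero (J.homology i)) :
    Nonempty (kernel (cmp T J (m + 1)) ≅ (T.rightDerived (m + 1)).obj (J.homology 0)) := by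
  obtain ⟨e⟩ := nonempty_cyclesShift T J hJ m 0 h
  let S := sesA J m
  let d := T.rightDerivedZeroIsoSelf.inv.app S.X₃ ≫ (les T).δ S (sesA_shortExact J m) 0 1 rfl
  have hd : T.map (σ J m) ≫ d = 0 := by
    change T.map S.g ≫ _ ≫ _ = 0
    rw [T.rightDerivedZeroIsoSelf.inv.naturality_assoc S.g]
    rw [(les T).comp_δ, comp_zero]
  have hex : (ShortComplex.mk _ _ hd).Exact := by
    refine ShortComplex.exact_of_iso ?_ ((les T).exact₃ S (sesA_shortExact J m) 0 1 rfl)
    exact ShortComplex.isoMk (T.rightDerivedZeroIsoSelf.app _) (T.rightDerivedZeroIsoSelf.app _)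
      (Iso.refl _) (T.rightDerivedZeroIsoSelf.hom.naturality _).symm (by simp [d, S])
  haveI : Epi d := by
    haveI := ((les T).exact₁ S (sesA_shortExact J m) 0 1 rfl).epi_f ((hJ m 0).eq_of_tgt _ _)
    exact epi_comp _ _
  haveI : Epi (ShortComplex.mk _ _ hd).g := inferInstanceAs (Epi d)
  haveI : Epi (ShortComplex.mk _ _ (map_σ_toKer T J m)).g := inferInstanceAs (Epi (toKer T J m))
  exact ⟨((exact_toKer T J m).gIsCokernel.coconePointUniqueUpToIso hex.gIsCokernel) ≪≫ e ≪≫
    eqToIso (congrArg (fun t => (T.rightDerived t).obj (J.cycles 0)) (by omega : 0 + m + 1 = m + 1)) ≪≫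
    (T.rightDerived (m + 1)).mapIso (CochainComplex.isoHomologyπ₀ J)⟩

include hJ in
/-- If the cohomology vanishes in degrees `1` to `m + 1`, then `H^{m+1}(T J) = R^{m+1}T(H^0 J)`. -/
theorem nonempty_homology_iso (m : ℕ) (h : ∀ i, 1 ≤ i → i ≤ m + 1 → IsZero (J.homology i)) :
    Nonempty ((TJ T J).homology (m + 1) ≅ (T.rightDerived (m + 1)).obj (J.homology 0)) := by
  obtain ⟨e⟩ := nonempty_kernel_cmp T J hJ m fun i hi hi' => h i hi (by omega)
  have h0 : cmp T J (m + 1) = 0 := (T.map_isZero (h (m + 1) (by omega) le_rfl)).eq_of_tgt _ _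
  haveI : IsIso (kernel.ι (cmp T J (m + 1))) := by rw [h0]; infer_instance
  exact ⟨(asIso (kernel.ι (cmp T J (m + 1)))).symm ≪≫ e⟩

/-- `H^0(T J) = T(H^0 J)`. -/
noncomputable def homologyZeroIso : (TJ T J).homology 0 ≅ T.obj (J.homology 0) :=
  (CochainComplex.isoHomologyπ₀ (TJ T J)).symm ≪≫ cyclesIso T J 0 ≪≫
    T.mapIso (CochainComplex.isoHomologyπ₀ J)

end Groth.Agent.Lib.SiteCmp29.CycleAcyc
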