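import Groth.Agent.H30.DHom.Iso
import Groth.Prelude.Def_FreeSh
import Groth.Agent.Lib.DerCat.KInjExists

/-!
# `U ↦ Hom_D(ℤ_U, L)` on a site, `L` K-injective (after `H30.DHom`, which is for spaces)
-/

set_option autoImplicit false
set_option backward.isDefEq.respectTransparency false

universe u

open CategoryTheory Limits Opposite HomologicalComplex

namespace Groth.Agent.Lib.SiteCmp29.DHomSite

open Groth.Agent.Lib.DerivedOX
open Groth.Agent.H30.DHom (Q_map_surjective Q_map_eq_zero_iff exact_of_evaluation)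

variable {C : Type u} [SmallCategory C] {J : GrothendieckTopology C}

/-- The free sheaves. -/
noncomputable abbrev Zs : C ⥤ Sheaf J AddCommGrpCat.{u} :=
  yoneda ⋙ (Functor.whiskeringRight _ _ _).obj AddCommGrpCat.free ⋙
    presheafToSheaf J AddCommGrpCat.{u}

/-- Maps out of free sheaves. -/
noncomputable def homEquiv (U : C) (F : Sheaf J AddCommGrpCat.{u}) :
    ((Zs (J := J)).obj U ⟶ F) ≃ F.obj.obj (op U) := (CohFree.homEquivSect J U F).toEquiv

lemma homEquiv_add {U : C} {F : Sheaf J AddCommGrpCat.{u}} (g h : (Zs (J := J)).obj U ⟶ F) :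
    homEquiv U F (g + h) = homEquiv U F g + homEquiv U F h := map_add (CohFree.homEquivSect J U F) g h

lemma homEquiv_zero {U : C} {F : Sheaf J AddCommGrpCat.{u}} :
    homEquiv U F (0 : (Zs (J := J)).obj U ⟶ F) = 0 := map_zero (CohFree.homEquivSect J U F)

lemma homEquiv_comp {U : C} {F G : Sheaf J AddCommGrpCat.{u}} (g : (Zs (J := J)).obj U ⟶ F) (φ : F ⟶ G) :
    homEquiv U G (g ≫ φ) = φ.hom.app (op U) (homEquiv U F g) := rfl

lemma homEquiv_res {U V : C} {F : Sheaf J AddCommGrpCat.{u}} (i : V ⟶ U) (g : (Zs (J := J)).obj U ⟶ F) :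
    homEquiv V F ((Zs (J := J)).map i ≫ g) = F.obj.map i.op (homEquiv U F g) :=
  CohFree.evalGen_freeSheafMap_comp J i F g

/-- The underlying complex of presheaves of a complex of sheaves. -/
noncomputable abbrev secCx (L : CochainComplex (Sheaf J AddCommGrpCat.{u}) ℤ) :
    CochainComplex (Cᵒᵖ ⥤ AddCommGrpCat.{u}) ℤ :=
  ((sheafToPresheaf J AddCommGrpCat.{u}).mapHomologicalComplex _).obj L

section

variable [HasDerivedCategory.{u} (Sheaf J AddCommGrpCat.{u})]

/-- The presheaf `U ↦ Hom_D(ℤ_U, M)`. -/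
noncomputable abbrev homPre (M : DerivedCategory (Sheaf J AddCommGrpCat.{u})) :
    Cᵒᵖ ⥤ AddCommGrpCat.{u} :=
  ((Zs (J := J)) ⋙ DerivedCategory.singleFunctor (Sheaf J AddCommGrpCat.{u}) 0).op ⋙ preadditiveYoneda.obj M

variable (L : CochainComplex (Sheaf J AddCommGrpCat.{u}) ℤ)

lemma cycles_cond (W : C) (z : ((secCx L).cycles 0).obj (op W)) (k : ℤ) :
    (homEquiv W (L.X 0)).symm (((secCx L).iCycles 0).app (op W) z) ≫ L.d 0 k = 0 := by
  apply (homEquiv W (L.X k)).injective
  rw [homEquiv_comp, Equiv.apply_symm_apply, homEquiv_zero]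
  change ((secCx L).iCycles 0 ≫ (secCx L).d 0 k).app (op W) z = 0
  rw [iCycles_d]
  rfl

/-- The map of complexes given by a cocycle section. -/
noncomputable def toHom (W : C) (z : ((secCx L).cycles 0).obj (op W)) :
    (HomologicalComplex.single (Sheaf J AddCommGrpCat.{u}) (.up ℤ) 0).obj ((Zs (J := J)).obj W) ⟶ L :=
  mkHomFromSingle ((homEquiv W (L.X 0)).symm (((secCx L).iCycles 0).app (op W) z))
    fun k _ => cycles_cond L W z k

lemma toHom_add (W : C) (z z' : ((secCx L).cycles 0).obj (op W)) :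
    toHom L W (z + z') = toHom L W z + toHom L W z' := by
  apply from_single_hom_ext
  rw [HomologicalComplex.add_f_apply]
  simp only [toHom, mkHomFromSingle_f, ← Preadditive.comp_add]
  congr 1
  apply (homEquiv W (L.X 0)).injective
  rw [homEquiv_add]
  simp

/-- The map from cocycles to morphisms in the derived category. -/
noncomputable def toD : (secCx L).cycles 0 ⟶ homPre (DerivedCategory.Q.obj L) where
  app W := AddCommGrpCat.ofHom (AddMonoidHom.mk'
    (fun z => DerivedCategory.Q.map (toHom L W.unop z)) fun z z' => by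
      exact (congrArg (DerivedCategory.Q.map ·) (toHom_add L W.unop z z')).trans
        (DerivedCategory.Q.map_add))
  naturality W V i := by
    ext z
    change DerivedCategory.Q.map (toHom L V.unop (((secCx L).cycles 0).map i z)) =
      DerivedCategory.Q.map ((HomologicalComplex.single (Sheaf J AddCommGrpCat.{u}) (.up ℤ) 0).map
        ((Zs (J := J)).map i.unop)) ≫ DerivedCategory.Q.map (toHom L W.unop z)
    rw [← Functor.map_comp]
    congr 1
    apply from_single_hom_ext
    rw [HomologicalComplex.comp_f, toHom, toHom, mkHomFromSingle_f, mkHomFromSingle_f,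
      single_map_f_self]
    simp only [Category.assoc, Iso.inv_hom_id_assoc]
    congr 1
    apply (homEquiv V.unop (L.X 0)).injective
    rw [homEquiv_res, Equiv.apply_symm_apply, Equiv.apply_symm_apply]
    exact NatTrans.naturality_apply ((secCx L).iCycles 0) i z


section Inj

/-- Sections killed by the differential come from cocycles. -/
theorem exists_cycle (W : Cᵒᵖ) (x : ((secCx L).X 0).obj W)
    (hx : ((secCx L).d 0 1).app W x = 0) :
    ∃ z : ((secCx L).cycles 0).obj W, ((secCx L).iCycles 0).app W z = x := by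
  let K := secCx L
  let S : ShortComplex _ := ShortComplex.mk (K.iCycles 0) (K.d 0 1) (K.iCycles_d 0 1)
  have hS : S.Exact :=
    ShortComplex.exact_of_f_is_kernel S (K.cyclesIsKernel 0 1 ((ComplexShape.up ℤ).next_eq' rfl))
  exact (ShortComplex.ab_exact_iff _).1
    (hS.map ((evaluation Cᵒᵖ AddCommGrpCat.{u}).obj W)) x hx

variable [L.IsKInjective]

theorem toCycles_toD : (secCx L).toCycles (-1) 0 ≫ toD L = 0 := by
  ext W y
  change DerivedCategory.Q.map (toHom L W.unop (((secCx L).toCycles (-1) 0).app W y)) = 0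
  rw [Q_map_eq_zero_iff]
  refine (GammaAcyclic.quotient_map_mkHomFromSingle_eq_zero_iff _ _ _).2
    ⟨(homEquiv W.unop (L.X (-1))).symm y, ?_⟩
  apply (homEquiv W.unop (L.X 0)).injective
  refine (homEquiv_comp _ _).trans ?_
  rw [Equiv.apply_symm_apply]
  refine (congrArg ((L.d (-1) 0).hom.app (op W.unop))
    ((homEquiv W.unop (L.X (-1))).apply_symm_apply y)).trans ?_
  change _ = ((secCx L).toCycles (-1) 0 ≫ (secCx L).iCycles 0).app W y
  rw [toCycles_i]
  rfl

theorem exact_toD : (ShortComplex.mk ((secCx L).toCycles (-1) 0) (toD L) (toCycles_toD L)).Exact := by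
  refine exact_of_evaluation _ fun W => ?_
  rw [ShortComplex.ab_exact_iff]
  intro z hz
  change DerivedCategory.Q.map (toHom L W.unop z) = 0 at hz
  rw [Q_map_eq_zero_iff] at hz
  obtain ⟨s, hs⟩ := (GammaAcyclic.quotient_map_mkHomFromSingle_eq_zero_iff _ _ _).1 hz
  refine ⟨homEquiv W.unop _ s, ?_⟩
  have hm : Mono ((secCx L).iCycles 0) := inferInstance
  have : Mono (((secCx L).iCycles 0).app W) := inferInstance
  apply (AddCommGrpCat.mono_iff_injective _).1 this
  have e := congrArg (homEquiv W.unop (L.X 0)) hs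
  rw [homEquiv_comp, Equiv.apply_symm_apply] at e
  refine Eq.trans ?_ e
  change ((secCx L).toCycles (-1) 0 ≫ (secCx L).iCycles 0).app W _ = _
  rw [toCycles_i]
  rfl

theorem epi_toD : Epi (toD L) := by
  rw [NatTrans.epi_iff_epi_app]
  intro W
  rw [AddCommGrpCat.epi_iff_surjective]
  intro φ
  obtain ⟨f, hf⟩ :=
    Q_map_surjective ((HomologicalComplex.single (Sheaf J AddCommGrpCat.{u}) (.up ℤ) 0).obj ((Zs (J := J)).obj W.unop)) L φ
  subst hf
  let g := (singleObjXSelf (ComplexShape.up ℤ) 0 ((Zs (J := J)).obj W.unop)).inv ≫ f.f 0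
  have hg : g ≫ L.d 0 1 = 0 := by
    rw [Category.assoc, f.comm, single_obj_d, zero_comp, comp_zero]
  obtain ⟨z, hz⟩ := exists_cycle L W (homEquiv W.unop _ g) (by
    have e := homEquiv_comp g (L.d 0 1)
    rw [hg] at e
    exact e.symm.trans homEquiv_zero)
  refine ⟨z, congrArg (DerivedCategory.Q.map ·) ?_⟩
  apply from_single_hom_ext
  rw [toHom, mkHomFromSingle_f, hz, Equiv.symm_apply_apply]
  exact Iso.hom_inv_id_assoc _ _

/-- `Hom_D(ℤ_U, L) ≅ H⁰(L(U))`, naturally in `U`. -/
noncomputable def iso : (secCx L).homology 0 ≅ homPre (DerivedCategory.Q.obj L) :=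
  haveI : Epi (toD L) := epi_toD L
  ((secCx L).homologyIsCokernel (-1) 0 ((ComplexShape.up ℤ).prev_eq' (neg_add_cancel 1))).coconePointUniqueUpToIso
    (exact_toD L).gIsCokernel


end Inj

end

/-- The sheafification of `U ↦ H^q(U, K)` is `H^q(K)`. -/
theorem nonempty_sheafify_iso [HasDerivedCategory.{u} (Sheaf J AddCommGrpCat.{u})]
    (K : DerivedCategory (Sheaf J AddCommGrpCat.{u})) (q : ℤ) :
    Nonempty ((presheafToSheaf J AddCommGrpCat.{u}).obj (CohCx.HDUPresheaf K q) ≅ CohCx.HD K q) := by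
  obtain ⟨K₀, ⟨e⟩⟩ : ∃ K₀, Nonempty (DerivedCategory.Q.obj K₀ ≅ (shiftFunctor _ q).obj K) :=
    ⟨_, ⟨DerivedCategory.Q.objObjPreimageIso _⟩⟩
  obtain ⟨I, g, hI, hg⟩ := Groth.Agent.Lib.DerCat.KInjExists.hasKInjRes K₀
  let eK : DerivedCategory.Q.obj I ≅ (shiftFunctor _ q).obj K := (asIso (DerivedCategory.Q.map g)).symm ≪≫ e
  let S := sheafificationAdjunction J AddCommGrpCat.{u}
  let eI : ((presheafToSheaf J AddCommGrpCat.{u}).mapHomologicalComplex (.up ℤ)).obj (secCx I) ≅ I :=
    HomologicalComplex.Hom.isoOfComponents (fun n => (asIso S.counit).app (I.X n))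
      (fun i j _ => (S.counit.naturality (I.d i j)).symm)
  exact ⟨(presheafToSheaf J AddCommGrpCat.{u}).mapIso
      (Functor.isoWhiskerLeft _ (preadditiveYoneda.mapIso eK.symm) ≪≫ (iso I).symm) ≪≫
    (((secCx I).sc 0).mapHomologyIso (presheafToSheaf J AddCommGrpCat.{u})).symm ≪≫
    (HomologicalComplex.homologyFunctor _ _ 0).mapIso eI ≪≫
    ((DerivedCategory.homologyFunctorFactors _ 0).app I).symm ≪≫
    (DerivedCategory.homologyFunctor _ 0).mapIso eK ≪≫
    ((DerivedCategory.homologyFunctor _ 0).shiftIso q 0 q (add_zero q)).app K⟩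

end Groth.Agent.Lib.SiteCmp29.DHomSite
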