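import Groth.Agent.Lib.SiteCmp29.Vanishing
import Groth.Agent.Lib.SiteCoh.CohPresheaf
import Groth.Agent.Lib.SiteCoh.Kill
import Groth.Agent.Lib.Modules.DerivedComm
import Mathlib.CategoryTheory.Comma.Over.Pullback
import Mathlib.CategoryTheory.Adjunction.Opposites
import Mathlib.CategoryTheory.Adjunction.Whiskering
import Mathlib.CategoryTheory.Sites.LocallyBijective

/-!
# Classes with equal pullbacks to `X ×_Y X` die locally on `Y`
-/

set_option autoImplicit false
set_option linter.style.haveILetI false
set_option linter.unusedSectionVars false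
set_option backward.isDefEq.respectTransparency false

universe u

open CategoryTheory Limits Opposite

namespace Groth.Agent.Lib.SiteCmp29.Descent

open Sites

variable {C : Type u} [SmallCategory C] {J J' : GrothendieckTopology C} {X Y : C} (f : X ⟶ Y)
  [HasPullbacksAlong f] (F' : Sheaf (J'.over Y) AddCommGrpCat.{u})

/-- `Z ↦ H^q(Z ×_Y X, F')`. -/
noncomputable abbrev hPre (q : ℕ) : (Over Y)ᵒᵖ ⥤ AddCommGrpCat.{u} :=
  (Over.pullback f).op ⋙ (Over.map f).op ⋙ Sheaf.cohomologyPresheaf.{u} F' q

/-- The presheaf `f'_*` is composition with base change. -/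
noncomputable def ranIso :
    ((Over.map f).op.ran : ((Over X)ᵒᵖ ⥤ AddCommGrpCat.{u}) ⥤ _) ≅
      (Functor.whiskeringLeft _ _ _).obj (Over.pullback f).op :=
  ((Over.map f).op.ranAdjunction AddCommGrpCat.{u}).rightAdjointUniq
    ((Over.mapPullbackAdj f).op.whiskerLeft AddCommGrpCat.{u})

/-- Its sheafification is the higher direct image of the restriction. -/
theorem nonempty_sheafify_iso (q : ℕ) :
    Nonempty ((presheafToSheaf (J'.over Y) AddCommGrpCat.{u}).obj (hPre f F' q) ≅
      ((f' J' f).rightDerived q).obj ((r J' f).obj F')) := by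
  haveI : (r J' f).PreservesHomology := inferInstance
  let R := injectiveResolution F'
  let RX := Groth.Agent.Lib.Modules.DerivedComm.mapInjectiveResolution (r J' f) R
  let Φ : ((Over Y)ᵒᵖ ⥤ AddCommGrpCat.{u}) ⥤ ((Over Y)ᵒᵖ ⥤ AddCommGrpCat.{u}) :=
    (Functor.whiskeringLeft _ _ _).obj (Over.map f).op ⋙ (Functor.whiskeringLeft _ _ _).obj (Over.pullback f).op
  haveI : Φ.PreservesHomology := inferInstance
  let a := presheafToSheaf (J'.over Y) AddCommGrpCat.{u}
  haveI : a.PreservesHomology := inferInstance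
  let Q := SiteCoh.CohPresheaf.presheafCx R
  let PX := (Φ.mapHomologicalComplex (ComplexShape.up ℕ)).obj Q
  let D := CycleAcyc.TJ (f' J' f) RX.cocomplex
  let e₁ : (a.mapHomologicalComplex (ComplexShape.up ℕ)).obj PX ≅ D :=
    HomologicalComplex.Hom.isoOfComponents
      (fun j => a.mapIso ((ranIso f).app ((Over.map f).op ⋙ (R.cocomplex.X j).obj)).symm ≪≫
        asIso ((sheafificationAdjunction (J'.over Y) AddCommGrpCat.{u}).counit.app (D.X j)))
      (fun i j _ => by
        dsimp only [Iso.trans_hom, Functor.mapIso_hom, Iso.app_hom, Iso.symm_hom, asIso_hom]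
        have h1 : (sheafToPresheaf _ _).map (D.d i j) =
            (Over.map f).op.ran.map (Functor.whiskerLeft (Over.map f).op (R.cocomplex.d i j).hom) := rfl
        rw [Category.assoc]
        refine (congrArg (_ ≫ ·)
          ((sheafificationAdjunction (J'.over Y) AddCommGrpCat.{u}).counit.naturality (D.d i j)).symm).trans ?_
        simp only [← Category.assoc]
        refine congrArg (· ≫ _) ?_
        change a.map _ ≫ a.map ((sheafToPresheaf _ _).map (D.d i j)) = a.map _ ≫ a.map _
        rw [← a.map_comp, ← a.map_comp, h1]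
        exact congrArg a.map ((ranIso f).inv.naturality _).symm)
  exact ⟨a.mapIso (Functor.mapIso Φ (SiteCoh.CohPresheaf.homologyIso R q).symm ≪≫
      ((Q.sc q).mapHomologyIso Φ).symm) ≪≫
    ((PX.sc q).mapHomologyIso a).symm ≪≫ (HomologicalComplex.homologyFunctor _ _ q).mapIso e₁ ≪≫
    (RX.isoRightDerivedObj (f' J' f) q).symm⟩

/-- A class on `X` with equal pullbacks to `X ×_Y X` dies on a covering of `Y`. -/
theorem exists_covering (n : ℕ)
    (hcov : Sieve.ofArrows (fun _ : PUnit.{u + 1} => X) (fun _ => f) ∈ J Y)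
    (hsheaf : Presheaf.IsSheaf (J.over Y)
      (((f' J' f).rightDerived (n + 1)).obj ((r J' f).obj F')).obj)
    (θ : CohSite.HU F' (n + 1) (Over.mk f))
    (hθ : ∀ (W : C) (p q : W ⟶ X) (hW : IsPullback p q f f),
      CohSite.res F' (n + 1) (Over.homMk p rfl : Over.mk (p ≫ f) ⟶ Over.mk f) θ =
        CohSite.res F' (n + 1) (Over.homMk q hW.w.symm : Over.mk (p ≫ f) ⟶ Over.mk f) θ) :
    ∃ (ι : Type u) (Z : ι → C) (g : ∀ i, Z i ⟶ Y), Sieve.ofArrows Z g ∈ J' Y ∧
      ∀ (i : ι) (W : C) (p : W ⟶ Z i) (q : W ⟶ X), IsPullback p q (g i) f →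
        CohSite.res F' (n + 1) (Over.homMk q rfl : Over.mk (q ≫ f) ⟶ Over.mk f) θ = 0 := by
  let H := Sheaf.cohomologyPresheaf.{u} F' (n + 1)
  let P := hPre f F' (n + 1)
  let K := (presheafToSheaf (J'.over Y) AddCommGrpCat.{u}).obj P
  let tK : P ⟶ K.obj := toSheafify (J'.over Y) P
  have hK : Presheaf.IsSheaf (J.over Y) K.obj := by
    obtain ⟨e⟩ := nonempty_sheafify_iso (J' := J') f F' (n + 1)
    exact (Presheaf.isSheaf_of_iso_iff ((sheafToPresheaf _ _).mapIso e)).2 hsheaf
  let T : Over Y := Over.mk (𝟙 Y)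
  let sndHom : ∀ U : Over Y, (Over.map f).obj ((Over.pullback f).obj U) ⟶ Over.mk f :=
    fun U => Over.homMk (pullback.snd U.hom f) rfl
  let m := sndHom T
  let c : P.obj (op T) := H.map m.op θ
  have hnat : ∀ {U : Over Y} (g : U ⟶ T), P.map g.op c = H.map (sndHom U).op θ := by
    intro U g
    change H.map ((Over.map f).map ((Over.pullback f).map g)).op (H.map m.op θ) = _
    rw [← CategoryTheory.comp_apply, ← H.map_comp, ← op_comp]
    refine congrArg (fun t : (Over.map f).obj ((Over.pullback f).obj U) ⟶ Over.mk f => H.map t.op θ)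
      (Over.OverMorphism.ext ?_)
    simp [m, sndHom]
  -- the restriction of the section to `X` vanishes
  let T' : Over Y := Over.mk f
  let a : T' ⟶ T := Over.homMk f (Category.comp_id _)
  have hX : K.obj.map a.op (tK.app (op T) c) = 0 := by
    rw [← NatTrans.naturality_apply tK a.op c, hnat a]
    have hsw : H.map (sndHom T').op θ =
        H.map (show (Over.map f).obj ((Over.pullback f).obj T') ⟶ Over.mk f from
          Over.homMk (pullback.fst f f) pullback.condition).op θ := by
      have h := hθ (pullback f f) (pullback.fst f f) (pullback.snd f f) (IsPullback.of_hasPullback f f)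
      let i : (Over.map f).obj ((Over.pullback f).obj T') ⟶ Over.mk (pullback.fst f f ≫ f) :=
        Over.homMk (𝟙 _) ((Category.id_comp _).trans pullback.condition)
      have h' := congrArg (fun t => H.map i.op t) h
      change H.map i.op (H.map _ θ) = H.map i.op (H.map _ θ) at h'
      rw [← CategoryTheory.comp_apply, ← H.map_comp, ← op_comp, ← CategoryTheory.comp_apply,
        ← H.map_comp, ← op_comp] at h'
      refine (congrArg (fun t : (Over.map f).obj ((Over.pullback f).obj T') ⟶ Over.mk f => H.map t.op θ)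
        (Over.OverMorphism.ext ?_)).trans (h'.symm.trans
          (congrArg (fun t : (Over.map f).obj ((Over.pullback f).obj T') ⟶ Over.mk f => H.map t.op θ)
            (Over.OverMorphism.ext ?_)))
      · simp [i, sndHom, T']
      · simp [i]
    rw [hsw]
    obtain ⟨S, hS, hkill⟩ := SiteCoh.Kill.exists_cover_kill n F' (Over.mk f) θ
    have hsep : Presieve.IsSheaf (J'.over Y) (K.obj ⋙ forget AddCommGrpCat.{u}) :=
      (isSheaf_iff_isSheaf_of_type _ _).1
        ((Presheaf.isSheaf_iff_isSheaf_forget (J'.over Y) K.obj (forget _)).1 K.property)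
    refine (hsep _ hS).isSeparatedFor.ext fun U g hg => ?_
    change K.obj.map g.op (tK.app (op T') _) = K.obj.map g.op 0
    rw [map_zero, ← NatTrans.naturality_apply tK g.op]
    refine (congrArg (tK.app (op U)) ?_).trans (map_zero (tK.app (op U)).hom)
    change H.map ((Over.map f).map ((Over.pullback f).map g)).op (H.map _ θ) = 0
    rw [← CategoryTheory.comp_apply, ← H.map_comp, ← op_comp]
    let q : (Over.map f).obj ((Over.pullback f).obj U) ⟶ U :=
      Over.homMk (pullback.fst U.hom f) pullback.condition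
    have hfac : (Over.map f).map ((Over.pullback f).map g) ≫
        (show (Over.map f).obj ((Over.pullback f).obj T') ⟶ Over.mk f from
          Over.homMk (pullback.fst f f) pullback.condition) = q ≫ g := by
      refine Over.OverMorphism.ext ?_
      simp [q, T']
    rw [hfac, op_comp, H.map_comp, CategoryTheory.comp_apply]
    have h0 : H.map g.op θ = 0 := hkill g hg
    rw [h0, map_zero]
  -- hence the section vanishes
  have hη : tK.app (op T) c = 0 := by
    have hsepJ : Presieve.IsSheaf (J.over Y) (K.obj ⋙ forget AddCommGrpCat.{u}) :=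
      (isSheaf_iff_isSheaf_of_type _ _).1
        ((Presheaf.isSheaf_iff_isSheaf_forget (J.over Y) K.obj (forget _)).1 hK)
    refine (hsepJ _ (J.overEquiv_symm_mem_over T _ hcov)).isSeparatedFor.ext fun U g hg => ?_
    change K.obj.map g.op _ = K.obj.map g.op 0
    rw [map_zero]
    rw [Sieve.overEquiv_symm_iff] at hg
    obtain ⟨_, b, hb⟩ := (Sieve.mem_ofArrows_iff _ _ _).1 hg
    let b' : U ⟶ T' := Over.homMk b (by
      change b ≫ f = U.hom
      rw [← hb, ← Over.w g]
      exact (Category.comp_id _).symm)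
    have hgb : g = b' ≫ a := Over.OverMorphism.ext hb
    rw [hgb, op_comp, K.obj.map_comp, CategoryTheory.comp_apply, hX, map_zero]
  -- the covering
  have heq : Presheaf.equalizerSieve (F := P) c 0 ∈ (J'.over Y) T :=
    Presheaf.equalizerSieve_mem (J'.over Y) tK c 0 (hη.trans (map_zero _).symm)
  let S₀ := Presheaf.equalizerSieve (F := P) c 0
  refine ⟨Σ U : Over Y, {g : U ⟶ T // S₀.arrows g}, fun i => i.1.left, fun i => i.1.hom, ?_, ?_⟩
  · refine J'.superset_covering ?_ ((GrothendieckTopology.mem_over_iff _ _).1 heq)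
    intro Z z hz
    rw [Sieve.overEquiv_iff] at hz
    refine (Sieve.mem_ofArrows_iff _ _ _).2 ⟨⟨_, _, hz⟩, 𝟙 _, ?_⟩
    simp [T]
  · rintro ⟨U, g, hg⟩ W p q hW
    have h0 : H.map (sndHom U).op θ = 0 := by
      rw [← hnat g]
      exact hg.trans (map_zero _)
    let l : Over.mk (q ≫ f) ⟶ (Over.map f).obj ((Over.pullback f).obj U) :=
      Over.homMk (pullback.lift p q hW.w) (by simp)
    have hl : (Over.homMk q rfl : Over.mk (q ≫ f) ⟶ Over.mk f) = l ≫ sndHom U :=
      Over.OverMorphism.ext (by simp [l, sndHom])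
    change H.map _ θ = 0
    rw [hl, op_comp, H.map_comp, CategoryTheory.comp_apply, h0, map_zero]

end Groth.Agent.Lib.SiteCmp29.Descent
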