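import Groth.Agent.Lib.SiteCmp29.CycleAcyc
import Mathlib.CategoryTheory.Adjunction.FullyFaithful
import Mathlib.CategoryTheory.Adjunction.Additive

/-!
# An exact reflector and complexes

For `L ⊣ ε` with `L` exact and the counit invertible: `L H^j(ε J) ≅ H^j J`, and the comparison
`H^j(ε J) ⟶ ε H^j J` is the unit followed by this isomorphism.
-/

set_option autoImplicit false
set_option linter.style.haveILetI false
set_option backward.isDefEq.respectTransparency false

universe v v' u u'

open CategoryTheory Limits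

namespace Groth.Agent.Lib.SiteCmp29.Reflect

variable {A : Type u} [Category.{v} A] [Abelian A] {B : Type u'} [Category.{v'} B] [Abelian B]
  {L : B ⥤ A} {ε : A ⥤ B} [L.Additive] [ε.Additive] [PreservesFiniteLimits ε]
  [PreservesFiniteLimits L] [PreservesFiniteColimits L] (adj : L ⊣ ε) [IsIso adj.counit]
  (J : CochainComplex A ℕ)

open CycleAcyc

/-- `L H^j(ε J) ⟶ H^j J`. -/
noncomputable def lcmp (j : ℕ) : L.obj ((TJ ε J).homology j) ⟶ J.homology j :=
  L.map (cmp ε J j) ≫ adj.counit.app _

lemma π_lcmp (j : ℕ) :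
    L.map ((TJ ε J).homologyπ j) ≫ lcmp adj J j =
      (L.map (cyclesIso ε J j).hom ≫ adj.counit.app (J.cycles j)) ≫ J.homologyπ j := by
  rw [lcmp, ← Functor.map_comp_assoc, π_cmp, Functor.map_comp, Category.assoc, Category.assoc]
  exact congrArg _ (adj.counit.naturality (J.homologyπ j))

lemma toCycles_lcmp (i j : ℕ) :
    L.map ((TJ ε J).toCycles i j) ≫ L.map (cyclesIso ε J j).hom ≫ adj.counit.app (J.cycles j) =
      adj.counit.app (J.X i) ≫ J.toCycles i j := by
  rw [← Functor.map_comp_assoc, toCycles_cyclesIso]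
  exact adj.counit.naturality (J.toCycles i j)

instance isIso_lcmp (j : ℕ) : IsIso (lcmp adj J j) := by
  let i := (ComplexShape.up ℕ).prev j
  haveI : Epi (L.map ((TJ ε J).homologyπ j)) := L.map_epi _
  haveI : Epi (L.map ((TJ ε J).homologyπ j) ≫ lcmp adj J j) := by
    rw [π_lcmp]; infer_instance
  haveI : Epi (lcmp adj J j) := epi_of_epi (L.map ((TJ ε J).homologyπ j)) _
  suffices Mono (lcmp adj J j) from isIso_of_mono_of_epi _
  refine Preadditive.mono_of_cancel_zero _ fun {W} x hx => ?_
  obtain ⟨W₁, p, _, y, hy⟩ := surjective_up_to_refinements_of_epi (L.map ((TJ ε J).homologyπ j)) x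
  have h0 : (y ≫ L.map (cyclesIso ε J j).hom ≫ adj.counit.app (J.cycles j)) ≫ J.homologyπ j = 0 := by
    rw [Category.assoc, ← π_lcmp, ← reassoc_of% hy, hx, comp_zero]
  obtain ⟨W₂, q, _, z, hz⟩ :=
    (ShortComplex.exact_of_g_is_cokernel (ShortComplex.mk _ _ (J.toCycles_comp_homologyπ i j))
      (J.homologyIsCokernel i j rfl)).exact_up_to_refinements _ h0
  have e : q ≫ y = (z ≫ inv (adj.counit.app (J.X i))) ≫ L.map ((TJ ε J).toCycles i j) := by
    rw [← cancel_mono (L.map (cyclesIso ε J j).hom ≫ adj.counit.app (J.cycles j))]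
    have hz' : q ≫ y ≫ L.map (cyclesIso ε J j).hom ≫ adj.counit.app (J.cycles j) =
        z ≫ J.toCycles i j := hz
    simp only [Category.assoc]
    rw [hz', toCycles_lcmp, IsIso.inv_hom_id_assoc]
  rw [← cancel_epi p, comp_zero, hy, ← cancel_epi q, reassoc_of% e, comp_zero, ← Functor.map_comp,
    HomologicalComplex.toCycles_comp_homologyπ, Functor.map_zero, comp_zero, comp_zero]

/-- `L H^j(ε J) ≅ H^j J`. -/
noncomputable def lcmpIso (j : ℕ) : L.obj ((TJ ε J).homology j) ≅ J.homology j :=
  asIso (lcmp adj J j)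

lemma cmp_eq (j : ℕ) :
    cmp ε J j = adj.unit.app ((TJ ε J).homology j) ≫ ε.map (lcmp adj J j) := by
  refine ((adj.homEquiv _ _).apply_symm_apply (cmp ε J j)).symm.trans ?_
  rw [adj.homEquiv_counit, adj.homEquiv_unit]
  rfl

/-- Local cohomology objects are computed by `ε`. -/
noncomputable def homologyIso (j : ℕ) [IsIso (adj.unit.app ((TJ ε J).homology j))] :
    (TJ ε J).homology j ≅ ε.obj (J.homology j) :=
  asIso (adj.unit.app ((TJ ε J).homology j)) ≪≫ ε.mapIso (lcmpIso adj J j)

lemma mono_unit (j : ℕ) [Mono (cmp ε J j)] : Mono (adj.unit.app ((TJ ε J).homology j)) := by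
  haveI : Mono (adj.unit.app ((TJ ε J).homology j) ≫ ε.map (lcmp adj J j)) := by
    rw [← cmp_eq]; infer_instance
  exact mono_of_mono (adj.unit.app ((TJ ε J).homology j)) (ε.map (lcmp adj J j))

/-- Objects in the image of `ε` are local. -/
lemma isIso_unit_obj (M : A) : IsIso (adj.unit.app (ε.obj M)) :=
  haveI : IsIso (adj.unit.app (ε.obj M) ≫ ε.map (adj.counit.app M)) := by
    rw [adj.right_triangle_components M]
    exact IsIso.id _
  IsIso.of_isIso_comp_right _ (ε.map (adj.counit.app M))

include adj in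
/-- `ε` reflects injective objects. -/
lemma injective_of_injective_obj (M : A) [Injective (ε.obj M)] : Injective M where
  factors {X Y} g f hf := by
    haveI : ε.IsRightAdjoint := adj.isRightAdjoint
    haveI := ε.map_mono f
    obtain ⟨h, hh⟩ := Injective.factors (ε.map g) (ε.map f)
    refine ⟨adj.fullyFaithfulROfIsIsoCounit.preimage h, adj.fullyFaithfulROfIsIsoCounit.map_injective ?_⟩
    rw [Functor.map_comp, Functor.FullyFaithful.map_preimage, hh]

end Groth.Agent.Lib.SiteCmp29.Reflect
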