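import Groth.Prelude.Def_SiteCmp
import Groth.Prelude.Def_CohSite
import Groth.Agent.Lib.SiteCmp29.Reflect
import Groth.Agent.Lib.EtJ.ExtZero
import Groth.Agent.Lib.SiteCoh.OverForget
import Mathlib.CategoryTheory.Adjunction.Restrict
import Mathlib.CategoryTheory.Sites.LocallyInjective

/-!
# Two topologies on a site: the reflector; restriction along `Over.map f`
-/

set_option autoImplicit false
set_option linter.style.haveILetI false
set_option backward.isDefEq.respectTransparency false

universe u

open CategoryTheory Limits Opposite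

namespace Groth.Agent.Lib.SiteCmp29.Sites

section Reflector

variable {D : Type u} [SmallCategory D] {K K' : GrothendieckTopology D} (h : K' ≤ K)

/-- `ε_*` on abelian sheaves. -/
abbrev ε : Sheaf K AddCommGrpCat.{u} ⥤ Sheaf K' AddCommGrpCat.{u} :=
  SiteCmp.epsSh h AddCommGrpCat.{u}

variable (K K') in
/-- Sheafification for the finer topology. -/
noncomputable abbrev L : Sheaf K' AddCommGrpCat.{u} ⥤ Sheaf K AddCommGrpCat.{u} :=
  sheafToPresheaf K' AddCommGrpCat.{u} ⋙ presheafToSheaf K AddCommGrpCat.{u}

/-- The adjunction. -/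
noncomputable def adj : L K K' ⊣ ε h :=
  (sheafificationAdjunction K AddCommGrpCat.{u}).restrictFullyFaithful
    (fullyFaithfulSheafToPresheaf K' _) (Functor.FullyFaithful.id _)
    ((L K K').rightUnitor).symm
    (NatIso.ofComponents (fun F => Iso.refl F.obj))

/-- `ε_*` is fully faithful. -/
def fullyFaithful : (ε h).FullyFaithful where
  preimage {F G} f := ⟨{ app := fun U => f.hom.app U, naturality := fun U V g => f.hom.naturality g }⟩

instance isIso_counit : IsIso (adj h).counit :=
  haveI := (fullyFaithful h).full
  haveI := (fullyFaithful h).faithful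
  (adj h).counit_isIso_of_R_fully_faithful

instance additive_ε : (ε h).Additive where

instance preservesFiniteLimits_ε : PreservesFiniteLimits (ε h) :=
  have : PreservesLimitsOfSize.{0, 0} (ε h) := (adj h).rightAdjoint_preservesLimits
  PreservesLimitsOfSize.preservesFiniteLimits _

instance preservesFiniteLimits_L : PreservesFiniteLimits (L K K') :=
  comp_preservesFiniteLimits _ _

instance preservesFiniteColimits_L {K K' : GrothendieckTopology D} [Fact (K' ≤ K)] :
    PreservesFiniteColimits (L K K') :=
  have : PreservesColimitsOfSize.{0, 0} (L K K') := (adj (Fact.out (p := K' ≤ K))).leftAdjoint_preservesColimits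
  PreservesColimitsOfSize.preservesFiniteColimits _

include h in
lemma preservesFiniteColimits_L' : PreservesFiniteColimits (L K K') :=
  haveI : Fact (K' ≤ K) := ⟨h⟩
  inferInstance

instance preservesMono_L : (L K K').PreservesMonomorphisms := inferInstance

/-- `ε_*` preserves injective objects. -/
instance preservesInjective_ε : (ε h).PreservesInjectiveObjects :=
  Functor.preservesInjectiveObjects_of_adjunction_of_preservesMonomorphisms (adj h)

/-- A `K`-sheaf is local. -/
lemma isIso_unit_of_isSheaf (G : Sheaf K' AddCommGrpCat.{u}) (hG : Presheaf.IsSheaf K G.obj) :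
    IsIso ((adj h).unit.app G) := by
  haveI := preservesFiniteColimits_L' h
  let e : (ε h).obj ⟨G.obj, hG⟩ ≅ G := (sheafToPresheaf K' _).preimageIso (Iso.refl G.obj)
  exact (NatTrans.isIso_app_iff_of_iso (adj h).unit e).1 (Reflect.isIso_unit_obj (adj h) _)

include h in
/-- A local object is a `K`-sheaf. -/
lemma isSheaf_of_isIso_unit (G : Sheaf K' AddCommGrpCat.{u}) [IsIso ((adj h).unit.app G)] :
    Presheaf.IsSheaf K G.obj :=
  (Presheaf.isSheaf_of_iso_iff ((sheafToPresheaf K' _).mapIso (asIso ((adj h).unit.app G)))).2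
    ((L K K').obj G).property

/-- If the sheafification vanishes, every section is locally zero. -/
lemma exists_sieve_of_isZero (G : Sheaf K' AddCommGrpCat.{u}) (hG : IsZero ((L K K').obj G))
    (U : D) (s : G.obj.obj (op U)) :
    ∃ S ∈ K U, ∀ ⦃V : D⦄ (g : V ⟶ U), S g → G.obj.map g.op s = 0 := by
  refine ⟨Presheaf.equalizerSieve (F := G.obj) s 0,
    Presheaf.equalizerSieve_mem K (toSheafify K G.obj) s 0 ?_, fun V g hg => ?_⟩
  · have hz : IsZero ((sheafify K G.obj).obj (op U)) :=
      ((sheafToPresheaf K AddCommGrpCat.{u}).map_isZero hG).obj _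
    haveI := AddCommGrpCat.subsingleton_of_isZero hz
    exact Subsingleton.elim _ _
  · exact hg.trans (map_zero _)

end Reflector

section Restriction

variable {C : Type u} [SmallCategory C] (K : GrothendieckTopology C) {W V : C} (f : W ⟶ V)

/-- Restriction along `f`. -/
noncomputable abbrev r : Sheaf (K.over V) AddCommGrpCat.{u} ⥤ Sheaf (K.over W) AddCommGrpCat.{u} :=
  (Over.map f).sheafPushforwardContinuous AddCommGrpCat.{u} (K.over W) (K.over V)

/-- Its right adjoint. -/
noncomputable abbrev f' : Sheaf (K.over W) AddCommGrpCat.{u} ⥤ Sheaf (K.over V) AddCommGrpCat.{u} :=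
  (Over.map f).sheafPushforwardCocontinuous AddCommGrpCat.{u} (K.over W) (K.over V)

/-- The adjunction. -/
noncomputable abbrev adjr : r K f ⊣ f' K f :=
  (Over.map f).sheafAdjunctionCocontinuous AddCommGrpCat.{u} (K.over W) (K.over V)

instance additive_r : (r K f).Additive where

instance additive_f' : (f' K f).Additive := (adjr K f).right_adjoint_additive

instance preservesFiniteLimits_f' : PreservesFiniteLimits (f' K f) :=
  have : PreservesLimitsOfSize.{0, 0} (f' K f) := (adjr K f).rightAdjoint_preservesLimits
  PreservesLimitsOfSize.preservesFiniteLimits _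

instance preservesFiniteColimits_r : PreservesFiniteColimits (r K f) :=
  have : PreservesColimitsOfSize.{0, 0} (r K f) := (adjr K f).leftAdjoint_preservesColimits
  PreservesColimitsOfSize.preservesFiniteColimits _

instance preservesFiniteLimits_r : PreservesFiniteLimits (r K f) :=
  have : PreservesLimitsOfSize.{0, 0} (r K f) :=
    ((Over.map f).sheafAdjunctionContinuous AddCommGrpCat.{u} (K.over W) (K.over V)).rightAdjoint_preservesLimits
  PreservesLimitsOfSize.preservesFiniteLimits _

/-- The final discrete subcategory of costructured arrows. -/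
def discreteFunctor (Z : Over V) :
    Discrete {φ : Z.left ⟶ W // φ ≫ f = Z.hom} ⥤ CostructuredArrow (Over.map f).op (op Z) :=
  Discrete.functor fun φ =>
    CostructuredArrow.mk (Y := op (Over.mk φ.1))
      (show Z ⟶ (Over.map f).obj (Over.mk φ.1) from Over.homMk (𝟙 Z.left) (by simp [φ.2])).op

instance discreteFunctor_final (Z : Over V) : (discreteFunctor f Z).Final where
  out d := by
    let g : Z ⟶ (Over.map f).obj d.left.unop := d.hom.unop
    have hg : g.left ≫ d.left.unop.hom ≫ f = Z.hom := Over.w g
    let φ : Z.left ⟶ W := g.left ≫ d.left.unop.hom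
    have hφ : φ ≫ f = Z.hom := (Category.assoc _ _ _).trans hg
    let k : Over.mk φ ⟶ d.left.unop := Over.homMk g.left rfl
    let a : d ⟶ (discreteFunctor f Z).obj ⟨⟨φ, hφ⟩⟩ := CostructuredArrow.homMk k.op
      (Quiver.Hom.unop_inj (Over.OverMorphism.ext (Category.id_comp _)))
    have key : ∀ y : StructuredArrow d (discreteFunctor f Z),
        y = StructuredArrow.mk (Y := (⟨⟨φ, hφ⟩⟩ : Discrete {φ : Z.left ⟶ W // φ ≫ f = Z.hom})) a := by
      rintro ⟨⟨⟨⟩⟩, ⟨⟨ψ, hψ⟩⟩, b⟩
      have hb : b.left.unop.left = g.left := by
        have := congrArg (fun m => m.unop.left) (CostructuredArrow.w b)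
        exact (Category.id_comp _).symm.trans this
      have hw : b.left.unop.left ≫ d.left.unop.hom = ψ := Over.w b.left.unop
      obtain rfl : ψ = φ := by
        rw [← hw, hb]
      obtain rfl : b = a := CostructuredArrow.hom_ext _ _
        (Quiver.Hom.unop_inj (Over.OverMorphism.ext hb))
      rfl
    have : Nonempty (StructuredArrow d (discreteFunctor f Z)) := ⟨StructuredArrow.mk a⟩
    exact zigzag_isConnected fun y z => by rw [key y, key z]

instance hasExactColimits_costructuredArrow (Z : (Over V)ᵒᵖ) :
    HasExactColimitsOfShape (CostructuredArrow (Over.map f).op Z) AddCommGrpCat.{u} := by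
  obtain ⟨Z⟩ := Z
  have : HasExactColimitsOfShape (Discrete {φ : Z.left ⟶ W // φ ≫ f = Z.hom}) AddCommGrpCat.{u} :=
    inferInstance
  exact hasExactColimitsOfShape_of_final AddCommGrpCat.{u} (discreteFunctor f Z)

instance preservesFiniteLimits_pullback :
    PreservesFiniteLimits ((Over.map f).sheafPullback AddCommGrpCat.{u} (K.over W) (K.over V)) := by
  have : PreservesFiniteLimits ((Over.map f).op.lan :
      (_ ⥤ AddCommGrpCat.{u}) ⥤ _) := EtJ.ExtZero.lan_preservesFiniteLimits_of_exact _
  have : PreservesFiniteLimits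
      (Functor.sheafPullbackConstruction.sheafPullback (Over.map f)
        AddCommGrpCat.{u} (K.over W) (K.over V)) := by
    have : PreservesFiniteLimits ((Over.map f).op.lan ⋙ presheafToSheaf (K.over V) AddCommGrpCat.{u}) :=
      comp_preservesFiniteLimits _ _
    exact comp_preservesFiniteLimits _ _
  exact preservesFiniteLimits_of_natIso
    (Functor.sheafPullbackConstruction.sheafPullbackIso (Over.map f)
      AddCommGrpCat.{u} (K.over W) (K.over V)).symm

/-- Restriction preserves injective objects. -/
instance preservesInjective_r : (r K f).PreservesInjectiveObjects :=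
  have : PreservesLimitsOfShape WalkingCospan
      ((Over.map f).sheafPullback AddCommGrpCat.{u} (K.over W) (K.over V)) := inferInstance
  Functor.preservesInjectiveObjects_of_adjunction_of_preservesMonomorphisms
    ((Over.map f).sheafAdjunctionContinuous AddCommGrpCat.{u} (K.over W) (K.over V))

variable {K}

/-- A section killed by all pullbacks to `W` is killed by the unit. -/
lemma unit_app_eq_zero (G : Sheaf (K.over V) AddCommGrpCat.{u}) (Z : Over V) (s : G.obj.obj (op Z))
    (hs : ∀ (Z' : Over W) (g : (Over.map f).obj Z' ⟶ Z), G.obj.map g.op s = 0) :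
    ((adjr K f).unit.app G).hom.app (op Z) s = 0 := by
  rw [Functor.sheafAdjunctionCocontinuous_unit_app_hom]
  refine Concrete.isLimit_ext _
    ((Over.map f).op.isPointwiseRightKanExtensionRanCounit ((Over.map f).op ⋙ G.obj) (op Z))
    _ _ fun a => ?_
  let η := ((Over.map f).op.ranAdjunction AddCommGrpCat.{u}).unit.app G.obj
  have h1 : η.app (op Z) ≫
      ((Over.map f).op.ran.obj ((Over.map f).op ⋙ G.obj)).map a.hom ≫
        ((Over.map f).op.ranCounit.app ((Over.map f).op ⋙ G.obj)).app a.right = G.obj.map a.hom := by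
    erw [← η.naturality_assoc]
    refine (congrArg (G.obj.map a.hom ≫ ·) ?_).trans (Category.comp_id _)
    exact congrArg (fun t => t.app a.right)
      (((Over.map f).op.ranAdjunction AddCommGrpCat.{u}).left_triangle_components G.obj)
  have h2 := ConcreteCategory.congr_hom h1 s
  refine h2.trans ((hs _ a.hom.unop).trans ?_)
  exact (map_zero _).symm

end Restriction

section Compat

variable {C : Type u} [SmallCategory C] {J J' : GrothendieckTopology C} (h : J' ≤ J)
  {W V : C} (f : W ⟶ V)

/-- The right adjoint of restriction keeps `J`-sheaves. -/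
lemma isSheaf_f' (G : Sheaf (J'.over W) AddCommGrpCat.{u}) (hG : Presheaf.IsSheaf (J.over W) G.obj) :
    Presheaf.IsSheaf (J.over V) ((f' J' f).obj G).obj :=
  ((f' J f).obj ⟨G.obj, hG⟩).property

/-- A morphism to a local object vanishes if its source dies on a covering. -/
lemma eq_zero_of_covering (hf : Sieve.ofArrows (fun _ : PUnit.{u + 1} => W) (fun _ => f) ∈ J V)
    {N G : Sheaf (J'.over V) AddCommGrpCat.{u}} (φ : N ⟶ G) (hG : Presheaf.IsSheaf (J.over V) G.obj)
    (hN : IsZero ((r J' f).obj N)) : φ = 0 := by
  refine (sheafToPresheaf _ _).map_injective ?_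
  ext ⟨Z⟩ s
  change φ.hom.app (op Z) s = 0
  have hcov : (Sieve.overEquiv Z).symm
      ((Sieve.ofArrows (fun _ : PUnit.{u + 1} => W) (fun _ => f)).pullback Z.hom) ∈ (J.over V) Z :=
    J.overEquiv_symm_mem_over _ _ (J.pullback_stable _ hf)
  have hsep : Presieve.IsSheaf (J.over V) (G.obj ⋙ forget AddCommGrpCat.{u}) :=
    (isSheaf_iff_isSheaf_of_type _ _).1 ((Presheaf.isSheaf_iff_isSheaf_forget (J.over V) G.obj (forget _)).1 hG)
  refine (hsep _ hcov).isSeparatedFor.ext fun Z' g hg => ?_
  · rw [Sieve.overEquiv_symm_iff, Sieve.pullback_apply, Over.w g] at hg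
    obtain ⟨_, a, ha⟩ := (Sieve.mem_ofArrows_iff _ _ _).1 hg
    let e : (Over.map f).obj (Over.mk a) ≅ Z' := Over.isoMk (Iso.refl _) (by simpa using ha)
    have hsub := AddCommGrpCat.subsingleton_of_isZero
      ((((sheafToPresheaf _ _).map_isZero hN).obj (op (Over.mk a))))
    have h0 : N.obj.map g.op s = 0 := by
      have := ((ConcreteCategory.bijective_of_isIso (N.obj.map e.hom.op)).1)
      apply this
      exact hsub.elim _ _
    change G.obj.map g.op (φ.hom.app (op Z) s) = G.obj.map g.op 0
    rw [map_zero, ← map_zero (φ.hom.app (op Z')).hom, ← h0]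
    exact (ConcreteCategory.congr_hom (φ.hom.naturality g.op) s).symm

end Compat

end Groth.Agent.Lib.SiteCmp29.Sites
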