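import Groth.Agent.Lib.SiteCmp29.Reflect
import Groth.Prelude.Def_WeakSerre
import Mathlib.Algebra.Homology.HomologySequence

/-!
# The induction step in the comparison of two topologies, abstractly

`C` plays the role of `ε I`, `r` of restriction along a covering arrow and `f'` of its right adjoint.
-/

set_option autoImplicit false
set_option linter.style.haveILetI false
set_option backward.isDefEq.respectTransparency false

universe v₁ v₂ v₃ u₁ u₂ u₃

open CategoryTheory Limits

namespace Groth.Agent.Lib.SiteCmp29.Step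

open CycleAcyc Reflect

variable {A : Type u₁} [Category.{v₁} A] [Abelian A] [EnoughInjectives A]
  {B : Type u₂} [Category.{v₂} B] [Abelian B]
  {B' : Type u₃} [Category.{v₃} B'] [Abelian B'] [EnoughInjectives B']
  {L : B ⥤ A} {ε : A ⥤ B} [L.Additive] [ε.Additive] [PreservesFiniteLimits ε]
  [PreservesFiniteLimits L] [PreservesFiniteColimits L] (adj : L ⊣ ε) [IsIso adj.counit]
  {r : B ⥤ B'} {f' : B' ⥤ B} [r.Additive] [f'.Additive] [PreservesFiniteLimits f']
  [PreservesFiniteLimits r] [PreservesFiniteColimits r] (adjr : r ⊣ f')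

include adjr in
/-- A morphism with an adjunct out of a zero object vanishes. -/
lemma eq_zero_of_isZero {N : B} (hN : IsZero (r.obj N)) {Z : B'} (φ : N ⟶ f'.obj Z) : φ = 0 :=
  (adjr.homEquiv _ _).symm.injective (hN.eq_of_src _ _)

/-- The kernel of the unit is killed by `r`. -/
lemma isZero_r_kernel_unit (G : B) : IsZero (r.obj (kernel (adjr.unit.app G))) := by
  haveI : Mono (r.map (adjr.unit.app G)) := ⟨fun g h e => by
    have e' := congrArg (· ≫ adjr.counit.app (r.obj G)) e
    simpa using e'⟩
  haveI : Mono (r.map (kernel.ι (adjr.unit.app G))) := r.map_mono _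
  rw [IsZero.iff_id_eq_zero, ← cancel_mono (r.map (kernel.ι (adjr.unit.app G))),
    ← cancel_mono (r.map (adjr.unit.app G)), Category.id_comp, ← r.map_comp, kernel.condition,
    r.map_zero, zero_comp, zero_comp]

variable (P : ObjectProperty B) [WSerre.IsWeakSerre P] (C : CochainComplex B ℕ)

/-- `r C`. -/
noncomputable abbrev rC : CochainComplex B' ℕ := (r.mapHomologicalComplex _).obj C

/-- The unit as a map of complexes. -/
noncomputable def unitMap : C ⟶ (f'.mapHomologicalComplex _).obj ((r.mapHomologicalComplex _).obj C) where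
  f i := adjr.unit.app (C.X i)
  comm' i j _ := (adjr.unit.naturality (C.d i j)).symm

include adj adjr in
/-- The step. -/
theorem eq_zero_of_step (n : ℕ) [∀ j, Injective (C.X j)]
    (hCloc : ∀ j, IsIso (adj.unit.app (C.X j))) (hrC : ∀ j, Injective (r.obj (C.X j)))
    (hDloc : ∀ j, IsIso (adj.unit.app (f'.obj (r.obj (C.X j)))))
    (hC : ∀ i, 1 ≤ i → i ≤ n → IsZero (C.homology i))
    (hL : IsZero (L.obj (C.homology (n + 1))))
    (hP : ∀ G : B, P G → IsIso (adj.unit.app G))
    (h0 : P (C.homology 0))
    (hR : ∀ i ≤ n + 1, P ((f'.rightDerived i).obj (r.obj (C.homology 0))))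
    (hsep : ∀ {N G : B} (φ : N ⟶ G), IsIso (adj.unit.app G) → IsZero (r.obj N) → φ = 0)
    (hV : ∀ M : A, P (ε.obj M) → ∀ k : ℕ, k + 1 ≤ n → IsZero ((ε.rightDerived (k + 1)).obj M))
    {N : B} (ι : N ⟶ C.homology (n + 1)) (hN : IsZero (r.obj N)) : ι = 0 := by
  haveI : r.PreservesMonomorphisms := inferInstance
  haveI : f'.PreservesInjectiveObjects :=
    Functor.preservesInjectiveObjects_of_adjunction_of_preservesMonomorphisms adjr
  let u := unitMap adjr C
  let rC' : CochainComplex B' ℕ := (r.mapHomologicalComplex _).obj C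
  let D : CochainComplex B ℕ := (f'.mapHomologicalComplex _).obj rC'
  haveI : ∀ j, Mono (u.f j) := fun j => by
    refine Preadditive.mono_of_isZero_kernel _ (IsZero.of_mono_eq_zero (kernel.ι (u.f j)) ?_)
    exact hsep _ (hCloc j) (isZero_r_kernel_unit adjr (C.X j))
  haveI : Mono u := HomologicalComplex.mono_of_mono_f u inferInstance
  -- cohomology of `r C` and of `D`
  have hrH : ∀ i, Nonempty (rC'.homology i ≅ r.obj (C.homology i)) := fun i =>
    ⟨(C.sc i).mapHomologyIso r⟩
  have hrC' : ∀ i, 1 ≤ i → i ≤ n → IsZero (rC'.homology i) := fun i h₁ h₂ =>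
    (r.map_isZero (hC i h₁ h₂)).of_iso (hrH i).some
  have hacyc : ∀ j k : ℕ, IsZero ((f'.rightDerived (k + 1)).obj (rC'.X j)) := fun j k =>
    haveI : Injective (rC'.X j) := hrC j
    Functor.isZero_rightDerived_obj_injective_succ _ _ _
  have hPD : ∀ i ≤ n, P (D.homology i) := by
    intro i hi
    cases i with
    | zero =>
      exact P.prop_of_iso ((f'.rightDerivedZeroIsoSelf.app (r.obj (C.homology 0))) ≪≫
        f'.mapIso (hrH 0).some.symm ≪≫ (homologyZeroIso f' rC').symm) (hR 0 (by omega))
    | succ m =>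
      obtain ⟨e⟩ := nonempty_homology_iso f' rC' hacyc m fun k h₁ h₂ => hrC' k h₁ (by omega)
      exact P.prop_of_iso ((f'.rightDerived (m + 1)).mapIso (hrH 0).some.symm ≪≫ e.symm)
        (hR (m + 1) (by omega))
  -- the quotient complex
  let S : ShortComplex (CochainComplex B ℕ) := ShortComplex.mk u (cokernel.π u) (cokernel.condition u)
  have hS : S.ShortExact :=
    { exact := ShortComplex.exact_of_g_is_cokernel _ (cokernelIsCokernel u) }
  let K := S.X₃
  have hSj : ∀ j, (S.map (HomologicalComplex.eval B _ j)).ShortExact := fun j =>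
    hS.map_of_exact (HomologicalComplex.eval B _ j)
  have hsplit : ∀ j, Nonempty (Retract (K.X j) (D.X j)) := fun j => by
    haveI : Injective (S.map (HomologicalComplex.eval B _ j)).X₁ := inferInstanceAs (Injective (C.X j))
    let sp := (hSj j).splittingOfInjective
    exact ⟨{ i := sp.s, r := (S.map (HomologicalComplex.eval B _ j)).g, retract := sp.s_g }⟩
  have hKloc : ∀ j, IsIso (adj.unit.app (K.X j)) := fun j => by
    obtain ⟨ρ⟩ := hsplit j
    haveI : IsIso (adj.unit.app (D.X j)) := hDloc j
    have h1 : ρ.i ≫ adj.unit.app (D.X j) = adj.unit.app (K.X j) ≫ ε.map (L.map ρ.i) :=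
      adj.unit.naturality ρ.i
    have h2 : ρ.r ≫ adj.unit.app (K.X j) = adj.unit.app (D.X j) ≫ ε.map (L.map ρ.r) :=
      adj.unit.naturality ρ.r
    refine ⟨ε.map (L.map ρ.i) ≫ inv (adj.unit.app (D.X j)) ≫ ρ.r, ?_, ?_⟩
    · rw [← reassoc_of% h1, IsIso.hom_inv_id_assoc, ρ.retract]; rfl
    · rw [Category.assoc, Category.assoc, h2, IsIso.inv_hom_id_assoc, ← ε.map_comp, ← L.map_comp,
        ρ.retract, L.map_id, ε.map_id]
      rfl
  haveI hKinj : ∀ j, Injective (K.X j) := fun j => by
    obtain ⟨ρ⟩ := hsplit j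
    haveI : Injective (D.X j) := by
      haveI := hrC j
      exact Functor.PreservesInjectiveObjects.injective_obj (hrC j)
    exact ρ.injective
  let J' : CochainComplex A ℕ := (L.mapHomologicalComplex _).obj K
  let eK : K ≅ TJ ε J' := HomologicalComplex.Hom.isoOfComponents (fun j => @asIso _ _ _ _ _ (hKloc j))
    (fun i j _ => (adj.unit.naturality (K.d i j)).symm)
  have hJ' : ∀ j k : ℕ, IsZero ((ε.rightDerived (k + 1)).obj (J'.X j)) := fun j k => by
    haveI : Injective (ε.obj (J'.X j)) :=
      Injective.of_iso (@asIso _ _ _ _ _ (hKloc j)) (hKinj j)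
    haveI : Injective (J'.X j) := injective_of_injective_obj adj (J'.X j)
    exact Functor.isZero_rightDerived_obj_injective_succ _ _ _
  -- maps in cohomology
  let a : ∀ i, C.homology i ⟶ D.homology i := fun i => HomologicalComplex.homologyMap u i
  let g : ∀ i, D.homology i ⟶ K.homology i := fun i => HomologicalComplex.homologyMap S.g i
  have hPC : ∀ i ≤ n, P (C.homology i) := fun i hi => by
    rcases Nat.eq_zero_or_pos i with rfl | hpos
    · exact h0
    · obtain ⟨Z, hZ, hPZ⟩ := P.exists_prop_of_containsZero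
      exact P.prop_of_iso (hZ.iso (hC i hpos hi)) hPZ
  have hPK : ∀ i < n, P (K.homology i) := fun i hi => by
    have hex : (ShortComplex.mk (a i) (g i) _).Exact := hS.homology_exact₂ i
    haveI : Epi (g i) :=
      (hS.homology_exact₃ i (i + 1) rfl).epi_f ((hC (i + 1) (by omega) hi).eq_of_tgt _ _)
    haveI : Epi (ShortComplex.mk (a i) (g i)
      (by rw [← HomologicalComplex.homologyMap_comp, cokernel.condition,
        HomologicalComplex.homologyMap_zero])).g := inferInstanceAs (Epi (g i))
    exact P.prop_of_isColimit_cokernelCofork hex.gIsCokernel (hPC i (by omega)) (hPD i (by omega))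
  -- the comparison in degree `n` for the quotient
  haveI : Mono (cmp ε J' n) := mono_cmp ε J' hJ' n fun j k hjk => by
    have hPj : P ((TJ ε J').homology j) :=
      P.prop_of_iso ((HomologicalComplex.homologyFunctor B _ j).mapIso eK) (hPK j (by omega))
    haveI := hP _ hPj
    exact hV _ (P.prop_of_iso (homologyIso adj J' j) hPj) k (by omega)
  haveI hmono : Mono (adj.unit.app (K.homology n)) := by
    let φ : K.homology n ⟶ (TJ ε J').homology n := HomologicalComplex.homologyMap eK.hom n
    have hnat : φ ≫ adj.unit.app ((TJ ε J').homology n) =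
        adj.unit.app (K.homology n) ≫ ε.map (L.map φ) := adj.unit.naturality φ
    haveI : IsIso φ := ((HomologicalComplex.homologyFunctor B _ n).mapIso eK).isIso_hom
    haveI := mono_unit adj J' n
    haveI : Mono (φ ≫ adj.unit.app ((TJ ε J').homology n)) := mono_comp _ _
    exact mono_of_mono_fac hnat.symm
  -- `H^n D ⟶ H^n K` is epi
  have hex₂ : (ShortComplex.mk (a n) (g n) _).Exact := hS.homology_exact₂ n
  have hex₃ := hS.homology_exact₃ n (n + 1) rfl
  haveI hLg : Epi (L.map (g n)) := by
    have h := hex₃.map L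
    exact h.epi_f (hL.eq_of_tgt _ _)
  let p : cokernel (a n) ⟶ K.homology n := cokernel.desc (a n) (g n) (by
    rw [← HomologicalComplex.homologyMap_comp, cokernel.condition, HomologicalComplex.homologyMap_zero])
  haveI : Mono p := (ShortComplex.exact_iff_mono_cokernel_desc _).1 hex₂
  have hQ : P (cokernel (a n)) :=
    P.prop_of_isColimit_cokernelCofork (colimit.isColimit _) (hPC n le_rfl) (hPD n le_rfl)
  haveI := hP _ hQ
  haveI : Epi (L.map (cokernel.π (a n)) ≫ L.map p) := by
    rw [← L.map_comp, cokernel.π_desc]; exact hLg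
  haveI : Epi (L.map p) := epi_of_epi (L.map (cokernel.π (a n))) _
  haveI : Mono (L.map p) := L.map_mono p
  haveI : IsIso (L.map p) := isIso_of_mono_of_epi _
  have hfac : p ≫ adj.unit.app (K.homology n) = adj.unit.app (cokernel (a n)) ≫ ε.map (L.map p) :=
    adj.unit.naturality p
  haveI : Epi (p ≫ adj.unit.app (K.homology n)) := by rw [hfac]; infer_instance
  haveI : Epi (adj.unit.app (K.homology n)) := epi_of_epi p _
  haveI : IsIso (adj.unit.app (K.homology n)) := isIso_of_mono_of_epi _
  haveI : IsIso (p ≫ adj.unit.app (K.homology n)) := by rw [hfac]; infer_instance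
  haveI : IsIso p := IsIso.of_isIso_comp_right p (adj.unit.app (K.homology n))
  haveI : Epi (g n) := by
    rw [← cokernel.π_desc (a n) (g n) (by
      rw [← HomologicalComplex.homologyMap_comp, cokernel.condition,
        HomologicalComplex.homologyMap_zero])]
    exact epi_comp _ p
  have hδ : hS.δ n (n + 1) rfl = 0 := by
    rw [← cancel_epi (g n), comp_zero]
    exact hS.comp_δ n (n + 1) rfl
  haveI : Mono (a (n + 1)) := (hS.homology_exact₁ n (n + 1) rfl).mono_g hδ
  -- kill `N`
  have hb : (ι ≫ a (n + 1)) ≫ cmp f' rC' (n + 1) = 0 := eq_zero_of_isZero adjr hN _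
  obtain ⟨e⟩ := nonempty_kernel_cmp f' rC' hacyc n hrC'
  haveI hker : IsIso (adj.unit.app (kernel (cmp f' rC' (n + 1)))) :=
    hP _ (P.prop_of_iso ((f'.rightDerived (n + 1)).mapIso (hrH 0).some.symm ≪≫ e.symm)
      (hR (n + 1) le_rfl))
  have hz : kernel.lift _ (ι ≫ a (n + 1)) hb = 0 := hsep _ hker hN
  rw [← cancel_mono (a (n + 1)), zero_comp, ← kernel.lift_ι _ (ι ≫ a (n + 1)) hb, hz, zero_comp]

end Groth.Agent.Lib.SiteCmp29.Step
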