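import Groth.Prelude.Def_WeakSerre
import Groth.Agent.Lib.DerCat.DerAdj
import Groth.Agent.Lib.DerCat.KInjExists
import Groth.Agent.Lib.DerivedOX.RightDerived

/-!
# `D(A) = D_A(C)` for a coreflective torsion class with divisible injectives
-/

set_option autoImplicit false
set_option linter.style.haveILetI false

universe w w' v u

open CategoryTheory Limits Pretriangulated

namespace Groth.Agent.Lib.SiteCmp29.TorsionGeneric

open Groth.Agent.Lib.DerivedOX.RightDerived Groth.Agent.Lib.DerCat

variable {C : Type u} [Category.{v} C] [Abelian C] (P : ObjectProperty C) [P.IsSerreClass]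

/-- The axioms of a torsion class with respect to the natural numbers. -/
structure Data where
  tors : C ⥤ P.FullSubcategory
  additive : tors.Additive
  adj : P.ι ⊣ tors
  mono_counit : ∀ X, Mono (adj.counit.app X)
  of_kill : ∀ (X : C) (n : ℕ), n ≠ 0 → n • 𝟙 X = 0 → P X
  isZero_of_div : ∀ X : C, P X → (∀ n : ℕ, n ≠ 0 → IsIso (n • 𝟙 X)) → IsZero X
  div : ∀ X : C, Injective X → ∀ n : ℕ, n ≠ 0 → Epi (n • 𝟙 X)

variable {P} (d : Data P)

include d in
/-- Multiplication by `n` is invertible on an injective object modulo its torsion. -/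
lemma Data.isIso_nsmul (S : ShortComplex C) (hS : S.ShortExact) (h₁ : P S.X₁) [Injective S.X₂]
    (hfac : ∀ (Z : C) (h : Z ⟶ S.X₂), P Z → ∃ u : Z ⟶ S.X₁, u ≫ S.f = h) (n : ℕ) (hn : n ≠ 0) :
    IsIso (n • 𝟙 S.X₃) := by
  haveI := hS.mono_f
  haveI := hS.epi_g
  haveI := d.div S.X₂ inferInstance n hn
  haveI : Epi (n • 𝟙 S.X₃) := by
    have e : (n • 𝟙 S.X₂) ≫ S.g = S.g ≫ (n • 𝟙 S.X₃) := by
      rw [Preadditive.nsmul_comp, Preadditive.comp_nsmul, Category.id_comp, Category.comp_id]
    haveI : Epi ((n • 𝟙 S.X₂) ≫ S.g) := epi_comp _ _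
    rw [e] at this
    exact epi_of_epi S.g _
  haveI : Mono (n • 𝟙 S.X₃) := by
    rw [Preadditive.mono_iff_isZero_kernel]
    set k := kernel.ι (n • 𝟙 S.X₃)
    have hk : n • k = 0 := by
      have := kernel.condition (n • 𝟙 S.X₃)
      rwa [Preadditive.comp_nsmul, Category.comp_id] at this
    have hz : (n • pullback.fst S.g k) ≫ S.g = 0 := by
      rw [Preadditive.nsmul_comp, pullback.condition, ← Preadditive.comp_nsmul, hk, comp_zero]
    let g := hS.exact.lift _ hz
    have hg : g ≫ S.f = n • pullback.fst S.g k := hS.exact.lift_f _ hz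
    have hker : P (kernel g) := d.of_kill _ n hn (by
      rw [← cancel_mono (kernel.ι g ≫ pullback.fst S.g k), Preadditive.nsmul_comp, Category.id_comp,
        zero_comp, ← Preadditive.comp_nsmul, ← hg, kernel.condition_assoc, zero_comp])
    have hPull : P (pullback S.g k) := by
      have hE : (ShortComplex.mk (kernel.ι g) g (kernel.condition g)).Exact :=
        ShortComplex.exact_of_f_is_kernel _ (kernelIsKernel g)
      exact P.prop_X₂_of_exact hE hker h₁
    obtain ⟨u, hu⟩ := hfac _ (pullback.fst S.g k) hPull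
    refine IsZero.of_mono_eq_zero k ?_
    rw [← cancel_epi (pullback.snd S.g k), ← pullback.condition, ← hu, Category.assoc, S.zero,
      comp_zero, comp_zero]
  exact isIso_of_mono_of_epi _

/-- The torsion subcomplex of a complex. -/
noncomputable abbrev Data.counitC [d.tors.Additive] (I : CochainComplex C ℤ) :
    (P.ι.mapHomologicalComplex (.up ℤ)).obj ((d.tors.mapHomologicalComplex (.up ℤ)).obj I) ⟶ I :=
  (DerAdj.adjC d.adj (ComplexShape.up ℤ)).counit.app I

/-- The torsion subcomplex of a termwise injective complex with torsion cohomology is quasi-isomorphic to it. -/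
lemma Data.quasiIso_counitC [d.tors.Additive] (I : CochainComplex C ℤ) (hI : ∀ m, Injective (I.X m))
    (hH : ∀ m, P (I.homology m)) : QuasiIso (d.counitC I) := by
  let c := d.counitC I
  haveI : ∀ m, Mono (c.f m) := fun m => d.mono_counit _
  haveI : Mono c := HomologicalComplex.mono_of_mono_f _ inferInstance
  let S := ShortComplex.mk c (cokernel.π c) (cokernel.condition c)
  have hS : S.ShortExact :=
    ShortComplex.ShortExact.mk' (ShortComplex.exact_of_g_is_cokernel S (cokernelIsCokernel c))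
      inferInstance inferInstance
  have hdiv : ∀ n : ℕ, n ≠ 0 → IsIso (n • 𝟙 S.X₃) := fun n hn => by
    haveI : ∀ m, IsIso ((n • 𝟙 S.X₃ : S.X₃ ⟶ S.X₃).f m) := fun m => by
      haveI : Injective (S.map (HomologicalComplex.eval C (.up ℤ) m)).X₂ := hI m
      have := d.isIso_nsmul _ (hS.map_of_exact (HomologicalComplex.eval C (.up ℤ) m))
        (d.tors.obj (I.X m)).2 (fun Z h hZ => ?_) n hn
      · have e : (n • 𝟙 S.X₃ : S.X₃ ⟶ S.X₃).f m = n • 𝟙 (S.X₃.X m) :=
          (Functor.map_nsmul (F := HomologicalComplex.eval C (.up ℤ) m)).trans rfl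
        rw [e]
        exact this
      · exact ⟨P.ι.map ((d.adj.homEquiv ⟨Z, hZ⟩ (I.X m)) h),
          (d.adj.homEquiv_counit ⟨Z, hZ⟩ (I.X m) _).symm.trans
            ((d.adj.homEquiv ⟨Z, hZ⟩ (I.X m)).symm_apply_apply h)⟩
    exact HomologicalComplex.Hom.isIso_of_components _
  have hT : ∀ m, P (S.X₁.homology m) := fun m => by
    have h0 : P (S.X₁.X m) := (d.tors.obj (I.X m)).2
    exact P.prop_of_epi (S.X₁.homologyπ m) (P.prop_of_mono (S.X₁.iCycles m) h0)
  have hQ : ∀ m, IsZero (S.X₃.homology m) := fun m => by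
    refine d.isZero_of_div _ (P.prop_X₂_of_exact (hS.homology_exact₃ m (m + 1) (by simp)) (hH m)
      (hT (m + 1))) fun n hn => ?_
    haveI := hdiv n hn
    have e : n • 𝟙 (S.X₃.homology m) =
        (HomologicalComplex.homologyFunctor C (.up ℤ) m).map (n • 𝟙 S.X₃) := by
      rw [Functor.map_nsmul, CategoryTheory.Functor.map_id]
      rfl
    rw [e]
    exact Functor.map_isIso _ _
  refine ⟨fun m => (quasiIsoAt_iff_isIso_homologyMap _ m).2 ?_⟩
  haveI : Mono (HomologicalComplex.homologyMap c m) :=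
    (hS.homology_exact₁ (m - 1) m (by simp)).mono_g ((hQ (m - 1)).eq_of_src _ _)
  haveI : Epi (HomologicalComplex.homologyMap c m) :=
    (hS.homology_exact₂ m).epi_f ((hQ m).eq_of_tgt _ _)
  exact isIso_of_mono_of_epi _

variable [HasDerivedCategory.{w} C] [HasDerivedCategory.{w'} P.FullSubcategory]

/-- The homology of an object coming from `D(A)` is in `A`. -/
lemma cohIn_toDerived (X : DerivedCategory P.FullSubcategory) :
    WSerre.cohIn P ((WSerre.toDerived P).obj X) := fun m => by
  obtain ⟨K, ⟨e⟩⟩ : ∃ K : CochainComplex P.FullSubcategory ℤ, Nonempty (DerivedCategory.Q.obj K ≅ X) :=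
    ⟨_, ⟨DerivedCategory.Q.objObjPreimageIso X⟩⟩
  exact P.prop_of_iso (((K.sc m).mapHomologyIso P.ι).symm ≪≫
    ((DerivedCategory.homologyFunctorFactors C m).app
      ((P.ι.mapHomologicalComplex (.up ℤ)).obj K)).symm ≪≫
    (DerivedCategory.homologyFunctor C m).mapIso
      ((P.ι.mapDerivedCategoryFactors.app K).symm ≪≫ (WSerre.toDerived P).mapIso e)).symm.symm
    (K.homology m).2

/-- `D(A) → D(C)` is conservative. -/
lemma isIso_of_isIso_toDerived {X Y : DerivedCategory P.FullSubcategory} (f : X ⟶ Y)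
    (hf : IsIso ((WSerre.toDerived P).map f)) : IsIso f := by
  obtain ⟨Z, g, h, hT⟩ := distinguished_cocone_triangle f
  have hT' := (WSerre.toDerived P).map_distinguished _ hT
  have hz : IsZero ((WSerre.toDerived P).obj Z) :=
    (Triangle.isZero₃_iff_isIso₁ _ hT').2 hf
  refine (Triangle.isZero₃_iff_isIso₁ _ hT).1 ?_
  change IsZero Z
  obtain ⟨K, ⟨e⟩⟩ : ∃ K : CochainComplex P.FullSubcategory ℤ, Nonempty (DerivedCategory.Q.obj K ≅ Z) :=
    ⟨_, ⟨DerivedCategory.Q.objObjPreimageIso Z⟩⟩
  have hK : ∀ m, IsZero (K.homology m) := fun m => by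
    have h1 : IsZero (P.ι.obj (K.homology m)) := ((DerivedCategory.homologyFunctor C m).map_isZero hz).of_iso
      (((K.sc m).mapHomologyIso P.ι).symm ≪≫ ((DerivedCategory.homologyFunctorFactors C m).app
        ((P.ι.mapHomologicalComplex (.up ℤ)).obj K)).symm ≪≫
        (DerivedCategory.homologyFunctor C m).mapIso
          ((P.ι.mapDerivedCategoryFactors.app K).symm ≪≫ (WSerre.toDerived P).mapIso e))
    rw [IsZero.iff_id_eq_zero]
    apply P.ι.map_injective
    exact h1.eq_of_src _ _
  refine IsZero.of_iso ?_ e.symm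
  obtain ⟨Z₀, hz₀⟩ : ∃ Z₀ : CochainComplex P.FullSubcategory ℤ, IsZero Z₀ := ⟨_, isZero_zero _⟩
  haveI : QuasiIso (0 : K ⟶ Z₀) := ⟨fun m => by
    have hZ := (HomologicalComplex.exactAt_iff_isZero_homology _ _).1
      (HomologicalComplex.acyclic_of_isZero Z₀ hz₀ m)
    exact (quasiIsoAt_iff_isIso_homologyMap _ m).2
      ⟨0, (hK m).eq_of_src _ _, hZ.eq_of_src _ _⟩⟩
  exact IsZero.of_iso (DerivedCategory.Q.map_isZero hz₀) (asIso (DerivedCategory.Q.map (0 : K ⟶ Z₀)))

include d in
/-- `D(A) → D(C)` is fully faithful with essential image `D_A(C)`. -/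
theorem Data.main [IsGrothendieckAbelian.{v} C] :
    (WSerre.toDerived P).Full ∧ (WSerre.toDerived P).Faithful ∧
      ∀ K : DerivedCategory C, WSerre.cohIn P K ↔ (WSerre.toDerived P).essImage K := by
  haveI : (DerivedCategory.Qh (C := C)).IsLeftAdjoint := isLeftAdjoint_Qh KInjExists.hasKInjRes
  haveI := d.additive
  let A := DerAdj.derivedAdj d.adj
  have hε : ∀ Y, WSerre.cohIn P Y → IsIso (A.counit.app Y) := fun Y hY => by
    obtain ⟨K, ⟨e⟩⟩ : ∃ K : CochainComplex C ℤ, Nonempty (DerivedCategory.Q.obj K ≅ Y) :=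
      ⟨_, ⟨DerivedCategory.Q.objObjPreimageIso Y⟩⟩
    obtain ⟨I, f, hI, hf, -, hinj⟩ := KInjExists.exists_kInjective_resolution K
    let qI := (HomotopyCategory.quotient C (.up ℤ)).obj I
    let e' : DerivedCategory.Qh.obj qI ≅ Y :=
      (DerivedCategory.quotientCompQhIso C).app I ≪≫ (asIso (DerivedCategory.Q.map f)).symm ≪≫ e
    suffices IsIso (A.counit.app (DerivedCategory.Qh.obj qI)) from
      (NatTrans.isIso_app_iff_of_iso A.counit e').1 this
    have hres := isIso_unit_of_isKInjective I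
    have hH : ∀ m, P (I.homology m) := fun m =>
      P.prop_of_iso ((DerivedCategory.homologyFunctor C m).mapIso e'.symm ≪≫
        (DerivedCategory.homologyFunctor C m).mapIso ((DerivedCategory.quotientCompQhIso C).app I) ≪≫
        (DerivedCategory.homologyFunctorFactors C m).app I) (hY m)
    haveI := d.quasiIso_counitC I hinj hH
    haveI h2 : IsIso (DerivedCategory.Qh.map ((DerAdj.adjK d.adj (.up ℤ)).counit.app qI)) :=
      (NatIso.isIso_map_iff (DerivedCategory.quotientCompQhIso C) (d.counitC I)).2 inferInstance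
    haveI h3 : IsIso (DerivedCategory.Qh.map ((DerAdj.adjK d.adj (.up ℤ)).counit.app
        ((resFunctor C).obj (DerivedCategory.Qh.obj qI)))) := by
      let β := Functor.whiskerRight (DerAdj.adjK d.adj (.up ℤ)).counit DerivedCategory.Qh
      exact (NatTrans.isIso_app_iff_of_iso β (asIso ((resAdj C).unit.app qI))).1 h2
    haveI : IsIso ((resAdj C).counit.app (DerivedCategory.Qh.obj qI)) := by
      exact IsIso.of_isIso_fac_left ((resAdj C).left_triangle_components qI)
    simp only [A, DerAdj.derivedAdj, Adjunction.ofNatIsoRight, Adjunction.mkOfHomEquiv_counit_app]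
    simp [Adjunction.comp_counit_app, Adjunction.homEquiv_counit]
    infer_instance
  haveI : IsIso A.unit := by
    haveI : ∀ X, IsIso (A.unit.app X) := fun X => by
      refine isIso_of_isIso_toDerived _ ?_
      haveI := hε _ (cohIn_toDerived X)
      have := A.left_triangle_components X
      exact @IsIso.of_isIso_fac_right _ _ _ _ _ _ _ _ (by assumption) (IsIso.id _) this
    exact NatIso.isIso_of_isIso_app _
  refine ⟨A.fullyFaithfulLOfIsIsoUnit.full, A.fullyFaithfulLOfIsIsoUnit.faithful, fun K => ⟨fun hK => ?_, ?_⟩⟩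
  · haveI := hε K hK
    exact ⟨_, ⟨asIso (A.counit.app K)⟩⟩
  · rintro ⟨X, ⟨e⟩⟩ m
    exact P.prop_of_iso ((DerivedCategory.homologyFunctor C m).mapIso e) (cohIn_toDerived X m)

end Groth.Agent.Lib.SiteCmp29.TorsionGeneric
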