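import Groth.Agent.Lib.SiteCmp29.TorsionGeneric
import Groth.Prelude.Def_SiteCmp

/-!
# The torsion subsheaf of an abelian sheaf
-/

set_option autoImplicit false
set_option linter.style.haveILetI false

universe u

open CategoryTheory Limits Opposite

namespace Groth.Agent.Lib.SiteCmp29.TorsionSh

variable {C : Type u} [SmallCategory C] {J : GrothendieckTopology C}

/-- The arrows on which a section has finite order. -/
def finSieve (F : Cᵒᵖ ⥤ AddCommGrpCat.{u}) {U : C} (s : F.obj (op U)) : Sieve U where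
  arrows V g := IsOfFinAddOrder ((F.map g.op).hom s)
  downward_closed {V W g} hg h := by
    rw [op_comp, F.map_comp]
    exact (F.map h.op).hom.isOfFinAddOrder hg

variable (F : Sheaf J AddCommGrpCat.{u})

/-- The locally torsion sections. -/
def tSub (U : Cᵒᵖ) : AddSubgroup (F.obj.obj U) where
  carrier := {s | finSieve F.obj (U := U.unop) s ∈ J U.unop}
  zero_mem' := J.superset_covering (S := ⊤) (fun V g _ => by
    change IsOfFinAddOrder ((F.obj.map g.op).hom 0)
    rw [map_zero]; exact IsOfFinAddOrder.zero) (J.top_mem _)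
  add_mem' {a b} ha hb := J.superset_covering (fun V g hg => by
    change IsOfFinAddOrder ((F.obj.map g.op).hom (a + b))
    rw [map_add]; exact hg.1.add hg.2) (J.intersection_covering ha hb)
  neg_mem' {a} ha := J.superset_covering (fun V g hg => by
    change IsOfFinAddOrder ((F.obj.map g.op).hom (-a))
    rw [map_neg]; exact hg.neg) ha

lemma map_mem {U V : Cᵒᵖ} (g : U ⟶ V) {s : F.obj.obj U} (hs : s ∈ tSub F U) :
    (F.obj.map g).hom s ∈ tSub F V := by
  refine J.superset_covering (fun W k hk => ?_) (J.pullback_stable g.unop hs)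
  change IsOfFinAddOrder ((F.obj.map k.op).hom ((F.obj.map g).hom s))
  have h : IsOfFinAddOrder ((F.obj.map (k ≫ g.unop).op).hom s) := hk
  rw [op_comp, F.obj.map_comp] at h
  exact h

/-- The torsion subpresheaf. -/
def tPre : Cᵒᵖ ⥤ AddCommGrpCat.{u} where
  obj U := AddCommGrpCat.of (tSub F U)
  map {U V} g := AddCommGrpCat.ofHom
    (((F.obj.map g).hom.comp (tSub F U).subtype).codRestrict (tSub F V) fun s => map_mem F g s.2)
  map_id U := by
    ext s
    change (F.obj.map (𝟙 U)).hom s.1 = s.1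
    rw [F.obj.map_id]; rfl
  map_comp {U V W} g h := by
    ext s
    change (F.obj.map (g ≫ h)).hom s.1 = (F.obj.map h).hom ((F.obj.map g).hom s.1)
    rw [F.obj.map_comp]; rfl

lemma isSheaf_tPre : Presheaf.IsSheaf J (tPre F) := by
  rw [Presheaf.isSheaf_iff_isSheaf_forget J (tPre F) (CategoryTheory.forget AddCommGrpCat),
    isSheaf_iff_isSheaf_of_type]
  intro U S hS x hx
  have hF : Presieve.IsSheaf J (F.obj ⋙ CategoryTheory.forget AddCommGrpCat) :=
    (isSheaf_iff_isSheaf_of_type _ _).1 ((Presheaf.isSheaf_iff_isSheaf_forget J F.obj _).1 F.property)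
  let y : Presieve.FamilyOfElements (F.obj ⋙ CategoryTheory.forget AddCommGrpCat) S.arrows :=
    fun V g hg => (x g hg).1
  have hy : y.Compatible := fun V₁ V₂ W g₁ g₂ f₁ f₂ h₁ h₂ e => congrArg Subtype.val (hx g₁ g₂ h₁ h₂ e)
  obtain ⟨t, ht, huniq⟩ := hF S hS y hy
  have hmem : t ∈ tSub F (op U) := by
    refine J.transitive hS _ fun V g hg => ?_
    refine J.superset_covering (fun W k hk => ?_) (x g hg).2
    change IsOfFinAddOrder ((F.obj.map (k ≫ g).op).hom t)
    rw [op_comp, F.obj.map_comp]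
    have hk' : IsOfFinAddOrder ((F.obj.map k.op).hom (x g hg).1) := hk
    have e : (F.obj.map g.op).hom t = (x g hg).1 := ht g hg
    rw [← e] at hk'
    exact hk'
  refine ⟨⟨t, hmem⟩, fun V g hg => Subtype.ext (ht g hg), fun t' ht' => Subtype.ext (huniq t'.1 ?_)⟩
  intro V g hg
  exact congrArg Subtype.val (ht' g hg)

/-- The torsion subsheaf. -/
def tSh : Sheaf J AddCommGrpCat.{u} := ⟨tPre F, isSheaf_tPre F⟩

lemma isTorsion_tSh : SiteCmp.torsionSh J (tSh F) := fun U s => by
  refine ⟨_, (s : tSub F (op U)).2, fun V g hg => ?_⟩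
  have hg' : IsOfFinAddOrder ((F.obj.map g.op).hom (s : tSub F (op U)).1) := hg
  obtain ⟨n, hn, hns⟩ := isOfFinAddOrder_iff_nsmul_eq_zero.1 hg'
  exact isOfFinAddOrder_iff_nsmul_eq_zero.2 ⟨n, hn, Subtype.ext hns⟩

/-- The inclusion. -/
def tIncl : tSh F ⟶ F :=
  ⟨{ app := fun U => AddCommGrpCat.ofHom (tSub F U).subtype
     naturality := fun U V g => rfl }⟩

instance : Mono (tIncl F) := by
  haveI : ∀ U, Mono ((tIncl F).hom.app U) := fun U =>
    (AddCommGrpCat.mono_iff_injective _).2 Subtype.val_injective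
  haveI : Mono ((sheafToPresheaf J AddCommGrpCat.{u}).map (tIncl F)) :=
    @NatTrans.mono_of_mono_app _ _ _ _ _ _ (tIncl F).hom this
  exact (sheafToPresheaf J AddCommGrpCat.{u}).mono_of_mono_map this

/-- A map out of a torsion sheaf lands in the torsion sections. -/
lemma mem_of_torsion {G : Sheaf J AddCommGrpCat.{u}} (hG : SiteCmp.torsionSh J G) (φ : G ⟶ F)
    (U : Cᵒᵖ) (s : G.obj.obj U) : (φ.hom.app U).hom s ∈ tSub F U := by
  obtain ⟨S, hS, hs⟩ := hG U.unop s
  refine J.superset_covering (fun V g hg => ?_) hS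
  change IsOfFinAddOrder ((F.obj.map g.op).hom ((φ.hom.app U).hom s))
  have e := congrArg (fun k => k.hom s) (φ.hom.naturality g.op)
  exact e ▸ (φ.hom.app (op V)).hom.isOfFinAddOrder (hs g hg)

/-- Maps from torsion sheaves. -/
def homEquiv (G : (SiteCmp.torsionSh J).FullSubcategory) :
    (G.obj ⟶ F) ≃ (G ⟶ ⟨tSh F, isTorsion_tSh F⟩) where
  toFun φ := ObjectProperty.homMk ⟨{
    app := fun U => AddCommGrpCat.ofHom
      ((φ.hom.app U).hom.codRestrict (tSub F U) fun s => mem_of_torsion F G.2 φ U s)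
    naturality := fun U V g => by
      ext s; apply Subtype.ext
      exact congrArg (fun k => k.hom s) (φ.hom.naturality g) }⟩
  invFun ψ := ψ.hom ≫ tIncl F
  left_inv φ := by rfl
  right_inv ψ := by rfl

variable (J) in
/-- The torsion functor. -/
noncomputable def tors : Sheaf J AddCommGrpCat.{u} ⥤ (SiteCmp.torsionSh J).FullSubcategory :=
  Adjunction.rightAdjointOfEquiv (F := (SiteCmp.torsionSh J).ι)
    (G_obj := fun F => ⟨tSh F, isTorsion_tSh F⟩) (fun G F => homEquiv F G)
    (fun G' G F f g => by rfl)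

variable (J) in
/-- The adjunction. -/
noncomputable def torsAdj : (SiteCmp.torsionSh J).ι ⊣ tors J :=
  Adjunction.adjunctionOfEquivRight (F := (SiteCmp.torsionSh J).ι)
    (G_obj := fun F => ⟨tSh F, isTorsion_tSh F⟩) (fun G F => homEquiv F G)
    (fun G' G F f g => by rfl)

lemma smul_app {F G : Sheaf J AddCommGrpCat.{u}} (φ : F ⟶ G) (n : ℕ) (U : Cᵒᵖ) (s : F.obj.obj U) :
    ((n • φ).hom.app U).hom s = n • (φ.hom.app U).hom s := by
  rw [show (n • φ).hom.app U = n • φ.hom.app U from
    Functor.map_nsmul (F := sheafToPresheaf J AddCommGrpCat.{u} ⋙ (evaluation _ _).obj U)]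
  rfl

lemma freeAb_nsmul_injective {X : Type u} (n : ℕ) (hn : n ≠ 0) :
    Function.Injective (fun a : FreeAbelianGroup X => n • a) := fun a b h => by
  have := congrArg (FreeAbelianGroup.equivFinsupp X) h
  simp only [map_nsmul] at this
  exact (FreeAbelianGroup.equivFinsupp X).injective (smul_right_injective _ hn this)

/-- Free abelian presheaf on `U`. -/
noncomputable abbrev freeAt (U : C) : Cᵒᵖ ⥤ AddCommGrpCat.{u} :=
  yoneda.obj U ⋙ AddCommGrpCat.free

lemma epi_nsmul_of_injective (I : Sheaf J AddCommGrpCat.{u}) [Injective I] (n : ℕ) (hn : n ≠ 0) :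
    Epi (n • 𝟙 I) := by
  suffices Epi ((sheafToPresheaf J AddCommGrpCat.{u}).map (n • 𝟙 I)) from
    (sheafToPresheaf J AddCommGrpCat.{u}).epi_of_epi_map this
  suffices h : ∀ U, Epi ((n • 𝟙 I).hom.app U) from @NatTrans.epi_of_epi_app _ _ _ _ _ _ (n • 𝟙 I).hom h
  intro U
  rw [AddCommGrpCat.epi_iff_surjective]
  intro s
  let φ : freeAt U.unop ⟶ I.obj :=
    { app := fun V => AddCommGrpCat.ofHom
        (FreeAbelianGroup.lift fun g : V.unop ⟶ U.unop => (I.obj.map g.op).hom s)
      naturality := fun V W k => by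
        apply AddCommGrpCat.hom_ext
        apply FreeAbelianGroup.lift_ext
        intro g
        change FreeAbelianGroup.lift _ ((FreeAbelianGroup.map _) (FreeAbelianGroup.of g)) =
          (I.obj.map k).hom (FreeAbelianGroup.lift _ (FreeAbelianGroup.of g))
        simp only [FreeAbelianGroup.map_of_apply, FreeAbelianGroup.lift_apply_of]
        change (I.obj.map ((k.unop ≫ g).op)).hom s = _
        rw [op_comp, I.obj.map_comp]
        rfl }
  haveI : Mono (n • 𝟙 (freeAt U.unop)) := by
    suffices ∀ V, Mono ((n • 𝟙 (freeAt U.unop)).app V) from NatTrans.mono_of_mono_app _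
    intro V
    rw [AddCommGrpCat.mono_iff_injective]
    intro a b hab
    refine freeAb_nsmul_injective n hn ?_
    exact hab
  let adj := sheafificationAdjunction J AddCommGrpCat.{u}
  haveI : Mono (n • 𝟙 ((presheafToSheaf J AddCommGrpCat.{u}).obj (freeAt U.unop))) := by
    rw [← CategoryTheory.Functor.map_id, ← Functor.map_nsmul]
    infer_instance
  let φ' := (adj.homEquiv (freeAt U.unop) I).symm φ
  let ψ := Injective.factorThru φ' (n • 𝟙 _)
  have hψ : φ' = n • ψ := by
    have := Injective.comp_factorThru φ' (n • 𝟙 _)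
    rw [Preadditive.nsmul_comp, Category.id_comp] at this
    exact this.symm
  have hφ : φ = n • (adj.homEquiv _ _ ψ) := by
    rw [← (adj.homEquiv (freeAt U.unop) I).apply_symm_apply φ]
    change adj.homEquiv _ _ φ' = _
    rw [hψ, Adjunction.homEquiv_unit, Adjunction.homEquiv_unit, Functor.map_nsmul,
      Preadditive.comp_nsmul]
  refine ⟨((adj.homEquiv _ _ ψ).app U).hom (FreeAbelianGroup.of (𝟙 U.unop)), ?_⟩
  rw [smul_app]
  have e := congrArg (fun k => (k.app U).hom (FreeAbelianGroup.of (𝟙 U.unop))) hφ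
  change FreeAbelianGroup.lift _ (FreeAbelianGroup.of (𝟙 U.unop)) =
    n • ((adj.homEquiv _ _ ψ).app U).hom (FreeAbelianGroup.of (𝟙 U.unop)) at e
  rw [FreeAbelianGroup.lift_apply_of, op_id, I.obj.map_id] at e
  exact e.symm

variable (J) in
/-- Torsion sheaves satisfy the axioms. -/
noncomputable def data [(SiteCmp.torsionSh J).IsSerreClass] :
    TorsionGeneric.Data (SiteCmp.torsionSh J) where
  tors := tors J
  additive := (torsAdj J).right_adjoint_additive
  adj := torsAdj J
  mono_counit F := by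
    change Mono (𝟙 (tSh F) ≫ tIncl F)
    infer_instance
  of_kill F n hn h U s := by
    refine ⟨⊤, J.top_mem _, fun V g _ => ?_⟩
    refine isOfFinAddOrder_iff_nsmul_eq_zero.2 ⟨n, Nat.pos_of_ne_zero hn, ?_⟩
    have e := smul_app (𝟙 F) n (op V) ((F.obj.map g.op).hom s)
    rw [h] at e
    exact e.symm
  isZero_of_div F hF hdiv := by
    rw [IsZero.iff_id_eq_zero]
    ext U s
    obtain ⟨S, hS, hs⟩ := hF U.unop s
    have hsep : Presieve.IsSheaf J (F.obj ⋙ CategoryTheory.forget AddCommGrpCat) :=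
      (isSheaf_iff_isSheaf_of_type _ _).1 ((Presheaf.isSheaf_iff_isSheaf_forget J F.obj _).1 F.property)
    refine (hsep S hS).isSeparatedFor.ext fun V g hg => ?_
    obtain ⟨n, hn, hns⟩ := isOfFinAddOrder_iff_nsmul_eq_zero.1 (hs g hg)
    haveI := hdiv n hn.ne'
    have hb : Function.Injective ((n • 𝟙 F).hom.app (op V)).hom := by
      haveI : IsIso ((n • 𝟙 F).hom.app (op V)) :=
        inferInstanceAs (IsIso ((sheafToPresheaf J AddCommGrpCat.{u} ⋙ (evaluation _ _).obj (op V)).map
          (n • 𝟙 F)))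
      exact (AddCommGrpCat.mono_iff_injective _).1 inferInstance
    have h0 : (F.obj.map g.op).hom s = 0 := hb (by rw [map_zero, smul_app]; exact hns)
    change (F.obj.map g.op).hom s = (F.obj.map g.op).hom 0
    rw [h0, map_zero]
  div F hF n hn := by
    haveI := hF
    exact epi_nsmul_of_injective F n hn

end Groth.Agent.Lib.SiteCmp29.TorsionSh
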