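import Mathlib.CategoryTheory.Triangulated.Pretriangulated
import Mathlib.CategoryTheory.Preadditive.Biproducts
import Mathlib.CategoryTheory.Preadditive.AdditiveFunctor
import Mathlib.Algebra.Exact.Basic

/-!
# Mayer–Vietoris sequences of a distinguished triangle
-/

universe v v' u u'

open CategoryTheory Limits Pretriangulated

namespace Groth.Agent.Lib.SiteCmp29.TriMV

variable {A : Type u} [Category.{v} A] [Preadditive A] {D : Type u'} [Category.{v'} D] [Preadditive D]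
  [HasZeroObject D] [HasShift D ℤ] [∀ n : ℤ, (shiftFunctor D n).Additive] [Pretriangulated D]
  (F : A ⥤ D) [F.Additive] {P Q R S : A} [HasBinaryBiproduct Q R]
  (b₂ : P ⟶ Q) (b₃ : P ⟶ R) (a₂ : Q ⟶ S) (a₃ : R ⟶ S)

theorem exists_exact (hfg : biprod.lift b₂ (-b₃) ≫ biprod.desc a₂ a₃ = 0)
    (d : F.obj S ⟶ (F.obj P)⟦(1 : ℤ)⟧)
    (hT : Triangle.mk (F.map (biprod.lift b₂ (-b₃))) (F.map (biprod.desc a₂ a₃)) d ∈
      distinguishedTriangles)
    (L M : D) (ψ : L⟦(1 : ℤ)⟧ ≅ M) :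
    ∃ δ : (F.obj P ⟶ L) →+ (F.obj S ⟶ M),
      (∀ w, δ w = d ≫ w⟦(1 : ℤ)⟧' ≫ ψ.hom) ∧
      Function.Exact ((Preadditive.leftComp L (F.map a₂)).prod (Preadditive.leftComp L (F.map a₃)))
        ((Preadditive.leftComp L (F.map b₂)).coprod (-(Preadditive.leftComp L (F.map b₃)))) ∧
      Function.Exact ((Preadditive.leftComp L (F.map b₂)).coprod (-(Preadditive.leftComp L (F.map b₃)))) δ ∧
      Function.Exact δ ((Preadditive.leftComp M (F.map a₂)).prod (Preadditive.leftComp M (F.map a₃))) := by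
  set f := biprod.lift b₂ (-b₃)
  set g := biprod.desc a₂ a₃
  have hf : ∀ {Z : D} (a : F.obj Q ⟶ Z) (b : F.obj R ⟶ Z),
      F.map f ≫ (F.map biprod.fst ≫ a + F.map biprod.snd ≫ b) =
        F.map b₂ ≫ a + -(F.map b₃ ≫ b) := fun a b => by
    rw [Preadditive.comp_add, ← F.map_comp_assoc, ← F.map_comp_assoc]
    simp [f]
  have hg : ∀ {Z : D} (z : F.obj S ⟶ Z),
      F.map biprod.inl ≫ F.map g ≫ z = F.map a₂ ≫ z ∧
        F.map biprod.inr ≫ F.map g ≫ z = F.map a₃ ≫ z := fun z => by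
    rw [← F.map_comp_assoc, ← F.map_comp_assoc]
    simp [g]
  have hsplit : ∀ {Z : D} (m : F.obj (Q ⊞ R) ⟶ Z),
      m = F.map biprod.fst ≫ F.map biprod.inl ≫ m + F.map biprod.snd ≫ F.map biprod.inr ≫ m :=
      fun m => by
    rw [← F.map_comp_assoc, ← F.map_comp_assoc, ← Preadditive.add_comp, ← F.map_add, biprod.total,
      F.map_id, Category.id_comp]
  have h₃₁ : d ≫ (F.map f)⟦(1 : ℤ)⟧' = 0 := comp_distTriang_mor_zero₃₁ _ hT
  have h₂₃ : F.map g ≫ d = 0 := comp_distTriang_mor_zero₂₃ _ hT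
  refine ⟨AddMonoidHom.mk' (fun w => d ≫ w⟦(1 : ℤ)⟧' ≫ ψ.hom)
    (fun a b => by rw [Functor.map_add, Preadditive.add_comp, Preadditive.comp_add]),
    fun w => rfl, fun p => ?_, fun w => ?_, fun z => ?_⟩
  · obtain ⟨a, b⟩ := p
    constructor
    · intro hab
      obtain ⟨z, hz⟩ := Triangle.yoneda_exact₂ _ hT
        (F.map biprod.fst ≫ a + F.map biprod.snd ≫ b) ((hf a b).trans hab)
      have hz' : F.map biprod.fst ≫ a + F.map biprod.snd ≫ b = F.map g ≫ z := hz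
      refine ⟨z, Prod.ext ?_ ?_⟩
      · change F.map a₂ ≫ z = a
        rw [← (hg z).1, ← hz', Preadditive.comp_add, ← F.map_comp_assoc, ← F.map_comp_assoc,
          biprod.inl_fst, biprod.inl_snd]
        simp
      · change F.map a₃ ≫ z = b
        rw [← (hg z).2, ← hz', Preadditive.comp_add, ← F.map_comp_assoc, ← F.map_comp_assoc,
          biprod.inr_fst, biprod.inr_snd]
        simp
    · rintro ⟨z, hz⟩
      cases hz
      change F.map b₂ ≫ F.map a₂ ≫ z + -(F.map b₃ ≫ F.map a₃ ≫ z) = 0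
      rw [← (hg z).1, ← (hg z).2, ← hf, ← hsplit, ← F.map_comp_assoc, hfg, F.map_zero, zero_comp]
  · constructor
    · intro hw
      have hw' : d ≫ w⟦(1 : ℤ)⟧' = 0 := by
        rw [← cancel_mono ψ.hom, Category.assoc, zero_comp]
        exact hw
      obtain ⟨m', hm⟩ : ∃ m' : (F.obj (Q ⊞ R))⟦(1 : ℤ)⟧ ⟶ L⟦(1 : ℤ)⟧,
          w⟦(1 : ℤ)⟧' = (-(F.map f)⟦(1 : ℤ)⟧') ≫ m' :=
        Triangle.yoneda_exact₃ _ (rot_of_distTriang _ hT) (w⟦(1 : ℤ)⟧') hw'
      obtain ⟨m, rfl⟩ := (shiftFunctor D (1 : ℤ)).map_surjective m'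
      have hw2 : w = -(F.map f ≫ m) := by
        refine (shiftFunctor D (1 : ℤ)).map_injective ?_
        rw [hm, Functor.map_neg, Functor.map_comp]
        exact Preadditive.neg_comp _ _
      refine ⟨(-(F.map biprod.inl ≫ m), -(F.map biprod.inr ≫ m)), ?_⟩
      rw [hw2]
      refine (hf _ _).symm.trans ?_
      change F.map f ≫ (F.map biprod.fst ≫ (-(F.map biprod.inl ≫ m)) +
        F.map biprod.snd ≫ (-(F.map biprod.inr ≫ m))) = -(F.map f ≫ m)
      simp only [Preadditive.comp_neg, ← neg_add, ← hsplit]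
    · rintro ⟨⟨a, b⟩, rfl⟩
      change d ≫ (F.map b₂ ≫ a + -(F.map b₃ ≫ b))⟦(1 : ℤ)⟧' ≫ ψ.hom = 0
      rw [← hf, Functor.map_comp, Category.assoc, reassoc_of% h₃₁, zero_comp]
  · constructor
    · intro hz
      have h2 : F.map a₂ ≫ z = 0 := congrArg Prod.fst hz
      have h3 : F.map a₃ ≫ z = 0 := congrArg Prod.snd hz
      have h0 : F.map g ≫ z = 0 := by
        rw [hsplit (F.map g ≫ z), (hg z).1, (hg z).2, h2, h3, comp_zero, comp_zero, add_zero]
      obtain ⟨m, hm⟩ : ∃ m : (F.obj P)⟦(1 : ℤ)⟧ ⟶ M, z = d ≫ m :=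
        Triangle.yoneda_exact₃ _ hT z h0
      obtain ⟨w, hw⟩ := (shiftFunctor D (1 : ℤ)).map_surjective (m ≫ ψ.inv)
      refine ⟨w, ?_⟩
      change d ≫ w⟦(1 : ℤ)⟧' ≫ ψ.hom = z
      rw [hw, Category.assoc, Iso.inv_hom_id, Category.comp_id]
      exact hm.symm
    · rintro ⟨w, rfl⟩
      refine Prod.ext ?_ ?_
      · change F.map a₂ ≫ d ≫ w⟦(1 : ℤ)⟧' ≫ ψ.hom = 0
        rw [← (hg _).1, reassoc_of% h₂₃, zero_comp, comp_zero]
      · change F.map a₃ ≫ d ≫ w⟦(1 : ℤ)⟧' ≫ ψ.hom = 0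
        rw [← (hg _).2, reassoc_of% h₂₃, zero_comp, comp_zero]

end Groth.Agent.Lib.SiteCmp29.TriMV
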