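import Groth.Agent.Lib.SiteCmp29.Step
import Groth.Agent.Lib.SiteCmp29.Sites

/-!
# Higher direct images along the comparison of two topologies vanish
-/

set_option autoImplicit false
set_option linter.style.haveILetI false
set_option linter.unusedSectionVars false
set_option backward.isDefEq.respectTransparency false

universe u

open CategoryTheory Limits Opposite

namespace Groth.Agent.Lib.SiteCmp29.Vanishing

open Sites CycleAcyc

variable {C : Type u} [SmallCategory C] {J J' : GrothendieckTopology C} (h : J' ≤ J)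
  (A' : ∀ X : C, ObjectProperty (Sheaf (J'.over X) AddCommGrpCat.{u})) [∀ X : C, WSerre.IsWeakSerre (A' X)]

/-- The comparison at `X`. -/
noncomputable abbrev εX (X : C) :
    Sheaf (J.over X) AddCommGrpCat.{u} ⥤ Sheaf (J'.over X) AddCommGrpCat.{u} :=
  SiteCmp.epsSh (SiteCmp.over_le h X) AddCommGrpCat.{u}

/-- Properties (2), (3), (4), (5). -/
structure Hyp (P : MorphismProperty C) : Prop where
  restr : ∀ ⦃X Y : C⦄ (f : X ⟶ Y) (F' : Sheaf (J'.over Y) AddCommGrpCat.{u}), A' Y F' →
    A' X ((r J' f).obj F')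
  sheaf : ∀ (X : C) (F' : Sheaf (J'.over X) AddCommGrpCat.{u}), A' X F' →
    Presheaf.IsSheaf (J.over X) F'.obj
  push : ∀ ⦃X Y : C⦄ (f : X ⟶ Y), P f → ∀ (F' : Sheaf (J'.over X) AddCommGrpCat.{u}), A' X F' →
    ∀ i : ℕ, A' Y (((f' J' f).rightDerived i).obj F')
  refine_cover : ∀ (U : C) (S : Sieve U), S ∈ J U → ∃ (ι : Type u) (V : ι → C) (v : ∀ j, V j ⟶ U),
    Sieve.ofArrows V v ∈ J' U ∧ ∀ j, ∃ (W : C) (w : W ⟶ V j), P w ∧
      Sieve.ofArrows (fun _ : PUnit.{u + 1} => W) (fun _ => w) ∈ J (V j) ∧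
      ∃ (κ : Type u) (Wk : κ → C) (wk : ∀ k, Wk k ⟶ W), Sieve.ofArrows Wk wk ∈ J' W ∧
        ∀ k, S.arrows (wk k ≫ w ≫ v j)

variable {A'} {P : MorphismProperty C}

/-- `R^i ε = 0` for `1 ≤ i ≤ n` on `A`. -/
def V (A' : ∀ X : C, ObjectProperty (Sheaf (J'.over X) AddCommGrpCat.{u})) (n : ℕ) : Prop :=
  ∀ (X : C) (F : Sheaf (J.over X) AddCommGrpCat.{u}), A' X ((εX h X).obj F) →
    ∀ i : ℕ, i + 1 ≤ n → IsZero (((εX h X).rightDerived (i + 1)).obj F)

variable {h}

/-- The unit of restriction along a covering arrow of `P` is mono on `R^{n+1}ε`. -/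
lemma mono_unit (H : Hyp (J := J) A' P) {n : ℕ} (hn : V h A' n) {X : C}
    (F : Sheaf (J.over X) AddCommGrpCat.{u}) (hF : A' X ((εX h X).obj F)) (R : InjectiveResolution F)
    {V W : C} (c : V ⟶ X) (w : W ⟶ V) (hw : P w)
    (hcov : Sieve.ofArrows (fun _ : PUnit.{u + 1} => W) (fun _ => w) ∈ J V) :
    Mono ((adjr J' w).unit.app ((r J' c).obj ((TJ (εX h X) R.cocomplex).homology (n + 1)))) := by
  let hX := SiteCmp.over_le h X
  let hV := SiteCmp.over_le h V
  haveI := preservesFiniteColimits_L' hX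
  haveI := preservesFiniteColimits_L' hV
  let C₀ := TJ (εX h X) R.cocomplex
  let C' : CochainComplex (Sheaf (J'.over V) AddCommGrpCat.{u}) ℕ :=
    ((r J' c).mapHomologicalComplex _).obj C₀
  let I' : CochainComplex (Sheaf (J.over V) AddCommGrpCat.{u}) ℕ :=
    ((r J c).mapHomologicalComplex _).obj R.cocomplex
  let eI : C' ≅ TJ (εX h V) I' := HomologicalComplex.Hom.isoOfComponents (fun _ => Iso.refl _)
    (fun i j _ => (Category.id_comp _).trans (Category.comp_id _).symm)
  let eH : ∀ i, C'.homology i ≅ (r J' c).obj (C₀.homology i) := fun i => (C₀.sc i).mapHomologyIso (r J' c)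
  have hinj : ∀ j, Injective (C'.X j) := fun j =>
    Functor.PreservesInjectiveObjects.injective_obj
      (F := r J' c) (Functor.PreservesInjectiveObjects.injective_obj (F := εX h X) (R.injective j))
  have hsh : ∀ j, Presheaf.IsSheaf (J.over V) (C'.X j).obj := fun j =>
    ((r J c).obj (R.cocomplex.X j)).property
  have hC : ∀ i, 1 ≤ i → i ≤ n → IsZero (C'.homology i) := fun i h1 h2 => by
    obtain ⟨k, rfl⟩ : ∃ k, i = k + 1 := ⟨i - 1, by omega⟩
    exact ((r J' c).map_isZero ((hn X F hF k h2).of_iso (R.isoRightDerivedObj (εX h X) (k + 1)).symm)).of_iso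
      (eH (k + 1))
  have hL : IsZero ((L (J.over V) (J'.over V)).obj (C'.homology (n + 1))) := by
    have h1 : IsZero (R.cocomplex.homology (n + 1)) :=
      (HomologicalComplex.exactAt_iff_isZero_homology _ _).1 (R.cocomplex_exactAt_succ n)
    exact (((r J c).map_isZero h1).of_iso ((R.cocomplex.sc (n + 1)).mapHomologyIso (r J c))).of_iso
      ((L (J.over V) (J'.over V)).mapIso ((HomologicalComplex.homologyFunctor _ _ (n + 1)).mapIso eI) ≪≫
        Reflect.lcmpIso (Sites.adj hV) I' (n + 1))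
  have h0 : A' V (C'.homology 0) :=
    (A' V).prop_of_iso ((r J' c).mapIso (((εX h X).rightDerivedZeroIsoSelf.app F).symm ≪≫
      R.isoRightDerivedObj (εX h X) 0) ≪≫ (eH 0).symm) (H.restr c _ hF)
  have key := fun {N : Sheaf (J'.over V) AddCommGrpCat.{u}} (ι : N ⟶ C'.homology (n + 1))
      (hN : IsZero ((r J' w).obj N)) =>
    Step.eq_zero_of_step (Sites.adj hV) (adjr J' w) (A' V) C' n
      (hCloc := fun j => isIso_unit_of_isSheaf hV _ (hsh j))
      (hrC := fun j => Functor.PreservesInjectiveObjects.injective_obj (F := r J' w) (hinj j))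
      (hDloc := fun j => isIso_unit_of_isSheaf hV _
        (isSheaf_f' w _ (((r J w).obj ((r J c).obj (R.cocomplex.X j))).property)))
      (hC := hC) (hL := hL)
      (hP := fun G hG => isIso_unit_of_isSheaf hV G (H.sheaf V G hG))
      (h0 := h0)
      (hR := fun i _ => H.push w hw _ (H.restr w _ h0) i)
      (hsep := fun φ hφ hN => by
        haveI := hφ
        exact eq_zero_of_covering w hcov φ (isSheaf_of_isIso_unit hV _) hN)
      (hV := fun M hM k hk => hn V M hM k hk) ι hN
  haveI hmono : Mono ((adjr J' w).unit.app (C'.homology (n + 1))) :=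
    Preadditive.mono_of_isZero_kernel _ (IsZero.of_mono_eq_zero (kernel.ι _)
      (key _ (Step.isZero_r_kernel_unit (adjr J' w) _)))
  let φ : (r J' c).obj (C₀.homology (n + 1)) ⟶ C'.homology (n + 1) := (eH (n + 1)).inv
  haveI : Mono (φ ≫ (adjr J' w).unit.app (C'.homology (n + 1))) := mono_comp _ _
  exact mono_of_mono_fac ((adjr J' w).unit.naturality φ).symm

/-- The induction step. -/
theorem V_succ (H : Hyp (J := J) A' P) {n : ℕ} (hn : V h A' n) : V h A' (n + 1) := by
  intro X F hF i hi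
  rcases Nat.lt_or_ge i n with hi' | hi'
  · exact hn X F hF i hi'
  obtain rfl : i = n := by omega
  let R := injectiveResolution F
  refine IsZero.of_iso ?_ (R.isoRightDerivedObj (εX h X) (i + 1))
  let G := (TJ (εX h X) R.cocomplex).homology (i + 1)
  change IsZero G
  haveI := preservesFiniteColimits_L' (SiteCmp.over_le h X)
  have hLG : IsZero ((L (J.over X) (J'.over X)).obj G) :=
    ((HomologicalComplex.exactAt_iff_isZero_homology _ _).1 (R.cocomplex_exactAt_succ i)).of_iso
      (Reflect.lcmpIso (Sites.adj (SiteCmp.over_le h X)) R.cocomplex (i + 1))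
  rw [IsZero.iff_id_eq_zero]
  refine (sheafToPresheaf _ _).map_injective ?_
  ext ⟨U⟩ s
  change s = 0
  obtain ⟨S', hS', hs⟩ := exists_sieve_of_isZero G hLG U s
  obtain ⟨κ, Vs, v, hcov, hrest⟩ := H.refine_cover U.left _ hS'
  have hsep : Presieve.IsSheaf (J'.over X) (G.obj ⋙ forget AddCommGrpCat.{u}) :=
    (isSheaf_iff_isSheaf_of_type _ _).1
      ((Presheaf.isSheaf_iff_isSheaf_forget (J'.over X) G.obj (forget _)).1 G.property)
  have hcov' : (Sieve.overEquiv U).symm (Sieve.ofArrows Vs v) ∈ (J'.over X) U :=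
    J'.overEquiv_symm_mem_over _ _ hcov
  refine (hsep _ hcov').isSeparatedFor.ext fun U' g hg => ?_
  change G.obj.map g.op s = G.obj.map g.op 0
  rw [map_zero]
  rw [Sieve.overEquiv_symm_iff] at hg
  obtain ⟨j, a, ha⟩ := (Sieve.mem_ofArrows_iff _ _ _).1 hg
  obtain ⟨W, w, hw, hwcov, κ', Wk, wk, hWk, hS⟩ := hrest j
  let c : Vs j ⟶ X := v j ≫ U.hom
  haveI := mono_unit (h := h) H hn F hF R c w hw hwcov
  let Z : Over (Vs j) := Over.mk (𝟙 _)
  let q : (Over.map c).obj Z ⟶ U := Over.homMk (v j) (by simp [Z, c])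
  -- vanishing at `V j`
  have hzero : G.obj.map q.op s = 0 := by
    have hinj : Function.Injective
        (((adjr J' w).unit.app ((r J' c).obj G)).hom.app (op Z)) := by
      haveI : Mono ((adjr J' w).unit.app ((r J' c).obj G)).hom :=
        inferInstanceAs (Mono ((sheafToPresheaf _ _).map ((adjr J' w).unit.app ((r J' c).obj G))))
      exact (AddCommGrpCat.mono_iff_injective _).1 ((NatTrans.mono_iff_mono_app _).1 inferInstance _)
    refine hinj ((unit_app_eq_zero w ((r J' c).obj G) Z (G.obj.map q.op s) fun Z' b => ?_).trans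
      (map_zero _).symm)
    change G.obj.map ((Over.map c).map b).op (G.obj.map q.op s) = 0
    rw [← CategoryTheory.comp_apply, ← G.obj.map_comp, ← op_comp]
    let T : Over X := (Over.map c).obj ((Over.map w).obj Z')
    let m : T ⟶ U := (Over.map c).map b ≫ q
    change G.obj.map m.op s = 0
    have hb : b.left = Z'.hom ≫ w := (Category.comp_id _).symm.trans (Over.w b)
    have hcovT : (Sieve.overEquiv T).symm ((Sieve.ofArrows Wk wk).pullback Z'.hom) ∈ (J'.over X) T :=
      J'.overEquiv_symm_mem_over _ _ (J'.pullback_stable _ hWk)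
    refine (hsep _ hcovT).isSeparatedFor.ext fun T' t ht => ?_
    change G.obj.map t.op (G.obj.map m.op s) = G.obj.map t.op 0
    rw [map_zero, ← CategoryTheory.comp_apply, ← G.obj.map_comp, ← op_comp]
    refine hs _ ?_
    rw [Sieve.overEquiv_symm_iff] at ht
    obtain ⟨k, d, hd⟩ := (Sieve.mem_ofArrows_iff _ _ _).1 ht
    have hS'' := Sieve.overEquiv_iff S' (wk k ≫ w ≫ v j)
    have hS₂ : (Sieve.overEquiv U S').arrows (d ≫ wk k ≫ w ≫ v j) :=
      (Sieve.overEquiv U S').downward_closed (hS k) d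
    have he : (t ≫ m).left = d ≫ wk k ≫ w ≫ v j := by
      change t.left ≫ b.left ≫ v j = _
      rw [hb, Category.assoc, ← Category.assoc t.left, hd, Category.assoc]
    rw [← (Sieve.overEquiv U).symm_apply_apply S', Sieve.overEquiv_symm_iff, he]
    exact hS₂
  let b : U' ⟶ (Over.map c).obj Z := Over.homMk a (by
    change a ≫ 𝟙 _ ≫ v j ≫ U.hom = U'.hom
    rw [Category.id_comp, ← reassoc_of% ha]
    exact Over.w g)
  have hg' : g = b ≫ q := Over.OverMorphism.ext ha
  rw [hg', op_comp, G.obj.map_comp, CategoryTheory.comp_apply, hzero, map_zero]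

variable (h)

/-- `R^iε = 0` for `i ≥ 1` on `A`. -/
theorem V_all (H : Hyp (J := J) A' P) : ∀ n, V h A' n
  | 0 => fun _ _ _ i hi => absurd hi (by omega)
  | n + 1 => V_succ H (V_all H n)

end Groth.Agent.Lib.SiteCmp29.Vanishing
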